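import Groth.Prelude.Def_Lef
import Groth.Agent.H95.Units.ClosedPush
import Groth.Agent.H95.Torsor.Iso
import Groth.Agent.Lib.ClSub.Sections
import Groth.Agent.Lib.Modules.StalkModule
import Groth.Agent.Lib.ClSub.Basis

/-!
# The ideals of the inclusions of thickenings
-/

set_option autoImplicit false
set_option maxHeartbeats 1000000
set_option linter.style.haveILetI false
universe u

open CategoryTheory CategoryTheory.Limits AlgebraicGeometry TopologicalSpace Opposite

namespace Groth.Agent.H78.LefPic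

noncomputable section

variable {X : Scheme.{u}}

theorem kernel_ι_comp_zero {M N N' : X.Modules} (a : M ⟶ N) (b : M ⟶ N')
    (hab : ∀ (V : X.affineOpens) (s : Γ(M, V.1)), a.app V.1 s = 0 → b.app V.1 s = 0) :
    kernel.ι a ≫ b = 0 := by
  refine Lib.Modules.StalkModule.hom_ext_stalkMapₗ fun x => LinearMap.ext fun z => ?_
  obtain ⟨O, hx, z, rfl⟩ := (kernel a).presheaf.exists_germ_eq z
  obtain ⟨V, hV, hxV, hle⟩ := exists_isAffineOpen_mem_and_subset hx
  rw [← Lib.ClSub.Basis.germ_map (M := kernel a) hle hxV, Lib.Modules.StalkModule.stalkMapₗ_germ,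
    Lib.Modules.StalkModule.stalkMapₗ_zero, LinearMap.zero_apply]
  have h1 : (kernel.ι a ≫ b).app V ((kernel a).presheaf.map (homOfLE hle).op z) = 0 :=
    hab ⟨V, hV⟩ _ (Lib.ClSub.Sections.app_kernel_ι_app a V _)
  erw [h1]
  exact map_zero _

def kernelIsoOfAffine {M N N' : X.Modules} (a : M ⟶ N) (b : M ⟶ N')
    (hab : ∀ (V : X.affineOpens) (s : Γ(M, V.1)), a.app V.1 s = 0 ↔ b.app V.1 s = 0) :
    kernel a ≅ kernel b where
  hom := kernel.lift b (kernel.ι a) (kernel_ι_comp_zero a b fun V s => (hab V s).1)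
  inv := kernel.lift a (kernel.ι b) (kernel_ι_comp_zero b a fun V s => (hab V s).2)
  hom_inv_id := by rw [← cancel_mono (kernel.ι a)]; simp
  inv_hom_id := by rw [← cancel_mono (kernel.ι b)]; simp

/-- The kernel of the quotient map is the pushed forward ideal of the inclusion. -/
theorem nonempty_kernel_quotMap_iso {I I' : X.IdealSheafData} (h : I ≤ I') :
    Nonempty (kernel (Lef.quotMap h) ≅ (Scheme.Modules.pushforward I.subschemeι).obj
      (ClSub.idealMod (Scheme.IdealSheafData.inclusion h).ker)) := by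
  let incl := Scheme.IdealSheafData.inclusion h
  haveI : IsClosedImmersion (incl ≫ I.subschemeι) := by
    rw [Scheme.IdealSheafData.inclusion_subschemeι]; infer_instance
  haveI : IsClosedImmersion incl := IsClosedImmersion.of_comp_isClosedImmersion incl I.subschemeι
  let e₁ : kernel (ClSub.unitToPush incl) ≅ ClSub.idealMod incl.ker :=
    kernelIsoOfAffine (ClSub.unitToPush incl) (ClSub.toSubscheme incl.ker) fun V s => by
      let s' : Γ(I.subscheme, V.1) := s
      show incl.app V.1 s' = 0 ↔ incl.ker.subschemeι.app V.1 s' = 0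
      rw [← RingHom.mem_ker, ← RingHom.mem_ker, incl.ker.ker_subschemeι_app V, Scheme.Hom.ker_apply]
  let F := Scheme.Modules.pushforward I.subschemeι
  haveI : PreservesLimitsOfSize.{0, 0} F :=
    (Scheme.Modules.pullbackPushforwardAdjunction I.subschemeι).rightAdjoint_preservesLimits
  exact ⟨kernelCompMono _ _ ≪≫ (PreservesKernel.iso F (ClSub.unitToPush incl)).symm ≪≫ F.mapIso e₁⟩

theorem subsingleton_H_idealMod {I I' : X.IdealSheafData} (h : I ≤ I') (q : ℕ)
    (hq : Subsingleton (Coh.HH X (kernel (Lef.quotMap h)) q)) :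
    Subsingleton (CohTop.H (Coh.toAb (ClSub.idealMod (Scheme.IdealSheafData.inclusion h).ker)) q) := by
  obtain ⟨θ⟩ := nonempty_kernel_quotMap_iso h
  obtain ⟨e⟩ := H95.Units.ClosedPush.nonempty_addEquiv (f := I.subschemeι.base)
    I.subschemeι.isClosedEmbedding
    (Coh.toAb (ClSub.idealMod (Scheme.IdealSheafData.inclusion h).ker)) q
  haveI : Subsingleton (CohTop.H ((CohTop.push I.subschemeι.base).obj
      (Coh.toAb (ClSub.idealMod (Scheme.IdealSheafData.inclusion h).ker))) q) :=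
    H95.Units.subsingleton_of_iso ((SheafOfModules.toSheaf X.ringCatSheaf).mapIso θ.symm) q hq
  exact @Equiv.subsingleton _ _ e.toEquiv this

theorem app_ker_mem {I I' : X.IdealSheafData} (h : I ≤ I') (V : X.affineOpens) (v : Γ(X, V.1))
    (hv : (Scheme.IdealSheafData.inclusion h).app (I.subschemeι ⁻¹ᵁ V.1) (I.subschemeι.app V.1 v) = 0) :
    v ∈ I'.ideal V := by
  rw [← I'.ker_subschemeι_app V, RingHom.mem_ker]
  have h1 : ∀ (f : I'.subscheme ⟶ X), f = I'.subschemeι → f.app V.1 v = 0 →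
      I'.subschemeι.app V.1 v = 0 := by rintro f rfl h; exact h
  exact h1 (Scheme.IdealSheafData.inclusion h ≫ I.subschemeι) (Scheme.IdealSheafData.inclusion_subschemeι h) hv

theorem ker_inclusion_mul_self {I I' : X.IdealSheafData} (h : I ≤ I') (hsq : I' * I' ≤ I) :
    (Scheme.IdealSheafData.inclusion h).ker * (Scheme.IdealSheafData.inclusion h).ker = ⊥ := by
  haveI : IsClosedImmersion (Scheme.IdealSheafData.inclusion h ≫ I.subschemeι) := by
    rw [Scheme.IdealSheafData.inclusion_subschemeι]; infer_instance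
  haveI : IsClosedImmersion (Scheme.IdealSheafData.inclusion h) :=
    IsClosedImmersion.of_comp_isClosedImmersion _ I.subschemeι
  refine Scheme.IdealSheafData.ext_of_iSup_eq_top
    (fun V : X.affineOpens => ⟨I.subschemeι ⁻¹ᵁ V.1, V.2.preimage _⟩)
    (eq_top_iff.2 fun z _ => by
      obtain ⟨V, hV, hzV, -⟩ := exists_isAffineOpen_mem_and_subset (X := X) (x := I.subschemeι z) (U := ⊤) trivial
      exact Opens.mem_iSup.2 ⟨⟨V, hV⟩, hzV⟩) fun V => ?_
  rw [Scheme.IdealSheafData.ideal_mul, Scheme.IdealSheafData.ideal_bot, Pi.mul_apply, Pi.bot_apply, eq_bot_iff]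
  refine Ideal.mul_le.2 fun a ha b hb => ?_
  obtain ⟨v, rfl⟩ := I.subschemeι.app_surjective V.1 V.2 a
  obtain ⟨w, rfl⟩ := I.subschemeι.app_surjective V.1 V.2 b
  rw [Scheme.Hom.ker_apply, RingHom.mem_ker] at ha hb
  refine (Submodule.mem_bot _).2 ?_
  rw [← map_mul, ← RingHom.mem_ker, I.ker_subschemeι_app V]
  refine hsq V ?_
  rw [Scheme.IdealSheafData.ideal_mul, Pi.mul_apply]
  exact Ideal.mul_mem_mul (app_ker_mem h V v ha) (app_ker_mem h V w hb)

theorem ker_inclusion_sq (𝓘 : X.IdealSheafData) (m : ℕ) :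
    (Scheme.IdealSheafData.inclusion (Lef.pow_succ_le 𝓘 m)).ker *
      (Scheme.IdealSheafData.inclusion (Lef.pow_succ_le 𝓘 m)).ker = ⊥ := by
  refine ker_inclusion_mul_self _ ?_
  rw [← pow_add, show m + 1 + (m + 1) = (m + 2) + m by omega, pow_add]
  exact mul_le_of_le_one_right' le_top

theorem surjective_inclusion (𝓘 : X.IdealSheafData) (m : ℕ) :
    Surjective (Scheme.IdealSheafData.inclusion (Lef.pow_succ_le 𝓘 m)) := by
  refine ⟨fun b => ?_⟩
  have hb : (𝓘 ^ (m + 1 + 1)).subschemeι b ∈ Set.range (𝓘 ^ (m + 1)).subschemeι := by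
    have h : (𝓘 ^ (m + 1 + 1)).subschemeι b ∈ Set.range (𝓘 ^ (m + 1 + 1)).subschemeι := ⟨b, rfl⟩
    rw [Scheme.IdealSheafData.range_subschemeι, Scheme.IdealSheafData.support_pow_succ] at h
    rwa [Scheme.IdealSheafData.range_subschemeι, Scheme.IdealSheafData.support_pow_succ]
  obtain ⟨a, ha⟩ := hb
  refine ⟨a, (𝓘 ^ (m + 1 + 1)).subschemeι.isClosedEmbedding.injective ?_⟩
  rw [← Scheme.Hom.comp_apply, ← ha]
  exact congr(($(Scheme.IdealSheafData.inclusion_subschemeι (Lef.pow_succ_le 𝓘 m))) a)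

/-- `H^q` of the units map kernel vanishes. -/
theorem subsingleton_H_K_deg (𝓘 : X.IdealSheafData) (m q : ℕ)
    (h : Subsingleton (Coh.HH X (kernel (Lef.quotMap (Lef.pow_succ_le 𝓘 m))) q)) :
    Subsingleton (CohTop.H (H95.Units.K
      (Scheme.IdealSheafData.inclusion (Lef.pow_succ_le 𝓘 m)).ker.subschemeι) q) :=
  H95.Torsor.subsingleton_H_K_of_ideal _ (ker_inclusion_sq 𝓘 m) q
    (subsingleton_H_idealMod (Lef.pow_succ_le 𝓘 m) q h)

/-- `H¹` of the units map kernel vanishes. -/
theorem subsingleton_H_K (𝓘 : X.IdealSheafData) (m : ℕ)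
    (h : Subsingleton (Coh.HH X (kernel (Lef.quotMap (Lef.pow_succ_le 𝓘 m))) 1)) :
    Subsingleton (CohTop.H (H95.Units.K
      (Scheme.IdealSheafData.inclusion (Lef.pow_succ_le 𝓘 m)).ker.subschemeι) 1) :=
  H95.Torsor.subsingleton_H_K_of_ideal _ (ker_inclusion_sq 𝓘 m) 1
    (subsingleton_H_idealMod (Lef.pow_succ_le 𝓘 m) 1 h)

end

end Groth.Agent.H78.LefPic
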