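import Groth.Agent.H95.Torsor.Pic
import Groth.Agent.Lib.Cech.Sections
import Groth.Agent.Lib.Cech.Criterion
import Groth.Agent.H97.GlueLine
import Groth.Agent.Lib.Modules.ProjFormula

/-!
# Lifting line bundles through thickenings, without separatedness
-/

set_option autoImplicit false
set_option linter.style.haveILetI false
set_option maxHeartbeats 1000000
universe u

open CategoryTheory CategoryTheory.Limits AlgebraicGeometry TopologicalSpace Opposite

namespace Groth.Agent.H78.LefPic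

open Groth.Agent.Lib.TensorMod.Gen Groth.Agent.Lib.TensorMod.Dual Groth.Agent.Lib.TensorMod.Pullback
  Groth.Agent.Lib.Ample.GenLocus
open Groth.Agent.H95.Units (K)
open Groth.Agent.H95.Torsor (isUnit_of_gen_eq exists_smul_eq smul_inj isUnit_of_app)
open Groth.Agent.Lib.Cech.Complex (Cochain dC dC_apply inter inter_le inter_le_face res res_res)
open Groth.Agent.Lib.Cech.Sections

noncomputable section

variable {X Z : Scheme.{u}} (i : Z ⟶ X) [IsClosedImmersion i] [Surjective i]

/-- Units lift locally along a thickening. -/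
theorem epi_comap_units : Epi (UnitsSh.comap i) := by
  refine (TopCat.Sheaf.isLocallySurjective_iff_epi _).1 ?_
  refine (TopCat.Presheaf.isLocallySurjective_iff _).2 fun W t x hx => ?_
  obtain ⟨V, hV, hxV, hle⟩ := exists_isAffineOpen_mem_and_subset (X := X) (U := W) hx
  let v : Γ(Z, i ⁻¹ᵁ V)ˣ := Units.map (Z.presheaf.map (homOfLE (i.preimage_mono hle)).op).hom.toMonoidHom
    (UnitsSh.unitOfSect (X := X.toTopCat) (O := (i.base _* Z.presheaf)) (U := op W) t)
  obtain ⟨a, ha⟩ := i.app_surjective V hV (v : Γ(Z, i ⁻¹ᵁ V))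
  have hu : IsUnit a := isUnit_of_app i (ha ▸ v.isUnit)
  refine ⟨V, hle, ⟨UnitsSh.sectOfUnit (O := X.presheaf) (U := op V) hu.unit, ?_⟩, hxV⟩
  exact congrArg (UnitsSh.sectOfUnit (X := X.toTopCat) (O := (i.base _* Z.presheaf)) (U := op V)) (Units.ext ha)

/-- A unit cocycle of the closed subscheme lifts after refinement when `H²` of the kernel vanishes. -/
theorem exists_cocycle_lift (h : Subsingleton (CohTop.H (K i) 2)) {α : Type u} (U : α → X.Opens)
    (hU : iSup U = ⊤)
    (c : Cochain (X := X.toTopCat) U ((CohTop.push i.base).obj (UnitsSh.unitsAb Z)).obj 1)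
    (hc : dC (X := X.toTopCat) U ((CohTop.push i.base).obj (UnitsSh.unitsAb Z)).obj 1 c = 0) :
    ∃ (V : X → X.Opens) (r : X → α) (hV : ∀ k, V k ≤ U (r k))
      (u : ∀ k l, (UnitsSh.unitsAb X).obj.obj (op (V k ⊓ V l))), iSup V = ⊤ ∧
      (∀ (k l m : X) (W : X.Opens) (hk : W ≤ V k) (hl : W ≤ V l) (hm : W ≤ V m),
        res (X := X.toTopCat) (UnitsSh.unitsAb X).obj (le_inf hk hl) (u k l) +
          res (X := X.toTopCat) (UnitsSh.unitsAb X).obj (le_inf hl hm) (u l m) =
            res (X := X.toTopCat) (UnitsSh.unitsAb X).obj (le_inf hk hm) (u k m)) ∧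
      ∀ (k l : X) (hkl : V k ⊓ V l ≤ inter (X := X.toTopCat) U ![r k, r l]),
        (UnitsSh.comap i).hom.app (op (V k ⊓ V l)) (u k l) =
          res (X := X.toTopCat) ((CohTop.push i.base).obj (UnitsSh.unitsAb Z)).obj hkl (c ![r k, r l]) := by
  let F := UnitsSh.unitsAb X
  let T := (CohTop.push i.base).obj (UnitsSh.unitsAb Z)
  let φ : F ⟶ T := UnitsSh.comap i
  haveI hepi : Epi φ := epi_comap_units i
  let ι : F ⟶ Injective.under F := Injective.ι F
  let S := cokerSeq (kernel.ι φ ≫ ι)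
  have hS : S.ShortExact := cokerSeq_shortExact _
  let S' := cokerSeq ι
  have hS' : S'.ShortExact := cokerSeq_shortExact _
  haveI : Injective S.X₂ := inferInstanceAs (Injective (Injective.under F))
  haveI : Subsingleton (CohTop.HU S.X₁ (0 + 2) (⊤ : Opens X.toTopCat)) :=
    (Lib.ZarCoh.Compare.hTop (K i) 2).symm.toEquiv.subsingleton
  haveI h1 := subsingleton_HU_X₃ hS (⊤ : Opens X.toTopCat) 0
  haveI hQ : Subsingleton (CohTop.H S.X₃ 1) :=
    @Equiv.subsingleton _ _ (Lib.ZarCoh.Compare.hTop S.X₃ 1).toEquiv h1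
  have hjz : kernel.ι φ ≫ ι ≫ S.g = 0 := by
    rw [← Category.assoc]
    exact S.zero
  let j : T ⟶ S.X₃ := Abelian.epiDesc φ (ι ≫ S.g) hjz
  have hφj : φ ≫ j = ι ≫ S.g := Abelian.comp_epiDesc _ _ _
  let η : S.X₃ ⟶ S'.X₃ := cokernel.desc _ S'.g (by
    show (kernel.ι φ ≫ ι) ≫ S'.g = 0
    rw [Category.assoc, show ι ≫ S'.g = 0 from S'.zero, comp_zero])
  have hgη : S.g ≫ η = S'.g := cokernel.π_desc _ _ _
  have hjη : j ≫ η = 0 := by
    rw [← cancel_epi φ, comp_zero, ← Category.assoc, hφj, Category.assoc, hgη]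
    exact S'.zero
  obtain ⟨p, hp⟩ := Groth.Agent.H95.Torsor.exists_coboundary S.X₃ hQ U hU
    (Groth.Agent.Lib.Cech.Complex.map (X := X.toTopCat) j.hom 1 c) (by
      rw [← Groth.Agent.Lib.Cech.Complex.map_dC, hc, map_zero])
  have hls : TopCat.Presheaf.IsLocallySurjective S.g.hom :=
    (TopCat.Sheaf.isLocallySurjective_iff_epi S.g).mpr hS.epi_g
  have hloc : ∀ x : X, ∃ (a : α) (V : X.Opens) (hV : V ≤ inter (X := X.toTopCat) U fun _ : Fin 1 => a)
      (t : S.X₂.obj.obj (op V)), x ∈ V ∧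
      S.g.hom.app (op V) t = res (X := X.toTopCat) S.X₃.obj hV (p fun _ => a) := fun x => by
    obtain ⟨a, ha⟩ := Opens.mem_iSup.1 (hU.ge (Opens.mem_top x))
    obtain ⟨V, hV, ⟨t, ht⟩, hx⟩ := (TopCat.Presheaf.isLocallySurjective_iff S.g.hom).mp hls
      (inter (X := X.toTopCat) U fun _ : Fin 1 => a) (p fun _ => a) x
      ((le_iInf fun _ => le_rfl : U a ≤ inter (X := X.toTopCat) U fun _ : Fin 1 => a) ha)
    exact ⟨a, V, hV, t, hx, ht⟩
  choose r V hV t hx ht using hloc
  let β : ∀ k l, S.X₂.obj.obj (op (V k ⊓ V l)) := fun k l =>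
    res (X := X.toTopCat) S.X₂.obj inf_le_right (t l) - res (X := X.toTopCat) S.X₂.obj inf_le_left (t k)
  have hgβ : ∀ k l (hkl : V k ⊓ V l ≤ inter (X := X.toTopCat) U ![r k, r l]),
      S.g.hom.app (op (V k ⊓ V l)) (β k l) =
        j.hom.app (op (V k ⊓ V l)) (res (X := X.toTopCat) T.obj hkl (c ![r k, r l])) := by
    intro k l hkl
    have e : j.hom.app _ (c ![r k, r l]) =
        res (X := X.toTopCat) S.X₃.obj (inter_le_face U ![r k, r l] 0) (p (![r k, r l] ∘ (0 : Fin 2).succAbove)) -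
          res (X := X.toTopCat) S.X₃.obj (inter_le_face U ![r k, r l] 1) (p (![r k, r l] ∘ (1 : Fin 2).succAbove)) := by
      have := (congr_fun hp ![r k, r l]).symm
      rw [dC_apply, Fin.sum_univ_two] at this
      simp only [Fin.val_zero, pow_zero, one_smul, Fin.val_one, pow_one, neg_smul, ← sub_eq_add_neg]
        at this
      exact this
    simp only [β, map_sub, Groth.Agent.Lib.Cech.Complex.res_naturality, ht, res_res, e]
    refine congrArg₂ (· - ·) ?_ ?_
    · exact Groth.Agent.Lib.Cech.Complex.cochain_congr U S.X₃.obj p (funext fun a : Fin 1 => by fin_cases a; rfl) _ _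
    · exact Groth.Agent.Lib.Cech.Complex.cochain_congr U S.X₃.obj p (funext fun a : Fin 1 => by fin_cases a; rfl) _ _
  have hVU : ∀ x, V x ≤ U (r x) := fun x => (hV x).trans (inter_le U _ 0)
  have h2 : ∀ k l, V k ⊓ V l ≤ inter (X := X.toTopCat) U ![r k, r l] := fun k l => le_iInf fun a => by
    fin_cases a
    · exact inf_le_left.trans (hVU k)
    · exact inf_le_right.trans (hVU l)
  have hu : ∀ k l, ∃ w : F.obj.obj (op (V k ⊓ V l)), ι.hom.app (op (V k ⊓ V l)) w = β k l := by
    intro k l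
    refine app_exact hS' _ _ ?_
    have e1 : S'.g.hom.app (op (V k ⊓ V l)) (β k l) = η.hom.app _ (S.g.hom.app _ (β k l)) :=
      (congr(($hgη).hom.app (op (V k ⊓ V l)) (β k l))).symm
    rw [e1, hgβ k l (h2 k l)]
    exact congr(($hjη).hom.app (op (V k ⊓ V l)) (res (X := X.toTopCat) T.obj (h2 k l) (c ![r k, r l])))
  choose w hw using hu
  refine ⟨V, r, hVU, w, eq_top_iff.2 fun x _ => Opens.mem_iSup.2 ⟨x, hx x⟩, ?_, fun k l hkl => ?_⟩
  · intro k l m W hk hl hm
    refine app_injective hS' W ?_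
    show ι.hom.app (op W) _ = ι.hom.app (op W) _
    have hn : ∀ {A B : X.Opens} (h : A ≤ B) (y : F.obj.obj (op B)),
        ι.hom.app (op A) (res (X := X.toTopCat) F.obj h y) =
          res (X := X.toTopCat) S.X₂.obj h (ι.hom.app (op B) y) :=
      fun h y => Groth.Agent.Lib.Cech.Complex.res_naturality ι.hom h y
    simp only [map_add, F, hn, hw, β, map_sub, res_res]
    abel
  · -- the lift reduces to the given cocycle: check locally
    refine TopCat.Presheaf.section_ext T (V k ⊓ V l) _ _ fun x hxW => ?_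
    obtain ⟨W, hW, ⟨s, hs⟩, hxW'⟩ := (TopCat.Presheaf.isLocallySurjective_iff φ.hom).mp
      ((TopCat.Sheaf.isLocallySurjective_iff_epi φ).mpr hepi) (V k ⊓ V l)
      (res (X := X.toTopCat) T.obj hkl (c ![r k, r l])) x hxW
    obtain ⟨d, hd⟩ := app_exact hS W (ι.hom.app (op W) (res (X := X.toTopCat) F.obj hW (w k l) - s)) (by
      have e1 : S.g.hom.app (op W) (ι.hom.app (op W) s) = j.hom.app (op W) (φ.hom.app (op W) s) :=
        (congr(($hφj).hom.app (op W) s)).symm
      rw [map_sub, map_sub, Groth.Agent.Lib.Cech.Complex.res_naturality, hw,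
        Groth.Agent.Lib.Cech.Complex.res_naturality, hgβ k l hkl, e1, hs, sub_eq_zero]
      exact (Groth.Agent.Lib.Cech.Complex.res_naturality j.hom _ _).symm)
    have hd' : (kernel.ι φ).hom.app (op W) d = res (X := X.toTopCat) F.obj hW (w k l) - s :=
      app_injective hS' W hd
    have h0 : φ.hom.app (op W) (res (X := X.toTopCat) F.obj hW (w k l) - s) = 0 := by
      rw [← hd']
      exact congr(($(kernel.condition φ)).hom.app (op W) d)
    rw [map_sub, sub_eq_zero, hs, Groth.Agent.Lib.Cech.Complex.res_naturality] at h0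
    rw [← TopCat.Presheaf.germ_res_apply T.obj (homOfLE hW) x hxW',
      ← TopCat.Presheaf.germ_res_apply T.obj (homOfLE hW) x hxW' (res (X := X.toTopCat) T.obj hkl _)]
    exact congrArg _ h0

/-- A section of the pushed forward units, as a function. -/
def uval {W : X.Opens} (s : ((CohTop.push i.base).obj (UnitsSh.unitsAb Z)).obj.obj (op W)) : Γ(Z, i ⁻¹ᵁ W) :=
  (UnitsSh.unitOfSect (X := X.toTopCat) (O := (i.base _* Z.presheaf)) (U := op W) s).val

omit [IsClosedImmersion i] [Surjective i] in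
theorem uval_add {W : X.Opens} (s t : ((CohTop.push i.base).obj (UnitsSh.unitsAb Z)).obj.obj (op W)) :
    uval i (s + t) = uval i s * uval i t := rfl

omit [IsClosedImmersion i] [Surjective i] in
theorem uval_injective {W : X.Opens} {s t : ((CohTop.push i.base).obj (UnitsSh.unitsAb Z)).obj.obj (op W)}
    (h : uval i s = uval i t) : s = t :=
  congrArg (UnitsSh.sectOfUnit (X := X.toTopCat) (O := (i.base _* Z.presheaf)) (U := op W)) (Units.ext h)

/-- Invertible modules lift through a thickening when `H²` of `1 + I` vanishes. -/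
theorem exists_lift_pic (h : Subsingleton (CohTop.H (K i) 2)) {L₀ : Z.Modules}
    (hL₀ : PicF.IsInvertible L₀) :
    ∃ L : X.Modules, PicF.IsInvertible L ∧ Nonempty ((Scheme.Modules.pullback i).obj L ≅ L₀) := by
  have hloc : ∀ x : X, ∃ (U : X.Opens) (e : Γ(L₀, i ⁻¹ᵁ U)), x ∈ U ∧ IsGen L₀ (i ⁻¹ᵁ U) e := fun x => by
    obtain ⟨z, rfl⟩ := i.surjective x
    obtain ⟨V, e, hzV, he⟩ := isInvertible_iff.1 hL₀ z
    obtain ⟨W, hW, hWV⟩ := i.isClosedEmbedding.isInducing.isOpen_iff.1 V.2
    have hle : i ⁻¹ᵁ (⟨W, hW⟩ : X.Opens) ≤ V := fun x hx => hWV.le hx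
    exact ⟨⟨W, hW⟩, rs L₀ hle e, hWV.ge hzV, he.res hle⟩
  choose U e hxU he using hloc
  have hUtop : iSup U = ⊤ := eq_top_iff.2 fun x _ => Opens.mem_iSup.2 ⟨x, hxU x⟩
  -- transition units on the closed subscheme
  have hg : ∀ j : Fin 2 → X, ∃ v : Γ(Z, i ⁻¹ᵁ inter (X := X.toTopCat) U j)ˣ,
      rs L₀ (i.preimage_mono (inter_le (X := X.toTopCat) U j 1)) (e (j 1)) =
        (v : Γ(Z, i ⁻¹ᵁ inter (X := X.toTopCat) U j)) •
          rs L₀ (i.preimage_mono (inter_le (X := X.toTopCat) U j 0)) (e (j 0)) := fun j => by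
    have g0 := (he (j 0)).res (i.preimage_mono (inter_le (X := X.toTopCat) U j 0))
    have g1 := (he (j 1)).res (i.preimage_mono (inter_le (X := X.toTopCat) U j 1))
    obtain ⟨v, hv⟩ := exists_smul_eq g0 (rs L₀ (i.preimage_mono (inter_le (X := X.toTopCat) U j 1)) (e (j 1)))
    exact ⟨(isUnit_of_gen_eq g0 g1 hv).unit, by rw [IsUnit.unit_spec]; exact hv.symm⟩
  choose v hv using hg
  let T := (CohTop.push i.base).obj (UnitsSh.unitsAb Z)
  let c : Cochain (X := X.toTopCat) U T.obj 1 := fun j =>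
    UnitsSh.sectOfUnit (X := X.toTopCat) (O := (i.base _* Z.presheaf))
      (U := op (inter (X := X.toTopCat) U j)) (v j)
  have hres : ∀ (j : Fin 2 → X) (W : X.Opens) (hW : W ≤ inter (X := X.toTopCat) U j) (h0 : W ≤ U (j 0))
      (h1 : W ≤ U (j 1)), rs L₀ (i.preimage_mono h1) (e (j 1)) =
        uval i (res (X := X.toTopCat) T.obj hW (c j)) • rs L₀ (i.preimage_mono h0) (e (j 0)) := by
    intro j W hW h0 h1
    have := congrArg (rs L₀ (i.preimage_mono hW)) (hv j)
    rw [rs_smul, rs_rs, rs_rs] at this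
    exact this
  have hcoc : dC (X := X.toTopCat) U T.obj 1 c = 0 := by
    funext j
    let W : X.Opens := inter (X := X.toTopCat) U j
    let m : Fin 3 → T.obj.obj (op W) := fun k => res (X := X.toTopCat) T.obj (inter_le_face U j k) (c (j ∘ k.succAbove))
    let E : ∀ k : Fin 3, Γ(L₀, i ⁻¹ᵁ W) := fun k => rs L₀ (i.preimage_mono (inter_le U j k)) (e (j k))
    have h0 : E 2 = uval i (m 0) • E 1 :=
      hres (j ∘ (0 : Fin 3).succAbove) W (inter_le_face U j 0) (inter_le U j 1) (inter_le U j 2)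
    have h1 : E 2 = uval i (m 1) • E 0 :=
      hres (j ∘ (1 : Fin 3).succAbove) W (inter_le_face U j 1) (inter_le U j 0) (inter_le U j 2)
    have h2 : E 1 = uval i (m 2) • E 0 :=
      hres (j ∘ (2 : Fin 3).succAbove) W (inter_le_face U j 2) (inter_le U j 0) (inter_le U j 1)
    have hm : m 1 = m 0 + m 2 := uval_injective i (smul_inj ((he (j 0)).res (i.preimage_mono (inter_le U j 0))) (by
      rw [uval_add, mul_smul]
      exact h1.symm.trans (h0.trans (congrArg (uval i (m 0) • ·) h2))))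
    rw [dC_apply, Pi.zero_apply, Fin.sum_univ_three]
    change (1 : ℤ) • m 0 + (-1 : ℤ) • m 1 + ((-1 : ℤ) ^ 2) • m 2 = 0
    rw [hm, neg_one_sq]
    simp only [one_smul, neg_smul]
    abel
  obtain ⟨V, r, hV, u, hVtop, hu, hui⟩ := exists_cocycle_lift i h U hUtop c hcoc
  let uv : ∀ k l, Γ(X, V k ⊓ V l)ˣ := fun k l => UnitsSh.unitOfSect (O := X.presheaf) (u k l)
  have htrans : ∀ (k l m : X) (W : X.Opens) (hk : W ≤ V k) (hl : W ≤ V l) (hm : W ≤ V m),
      Units.map (X.presheaf.map (homOfLE (le_inf hk hl)).op).hom.toMonoidHom (uv k l) *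
        Units.map (X.presheaf.map (homOfLE (le_inf hl hm)).op).hom.toMonoidHom (uv l m) =
      Units.map (X.presheaf.map (homOfLE (le_inf hk hm)).op).hom.toMonoidHom (uv k m) :=
    fun k l m W hk hl hm => congrArg (UnitsSh.unitOfSect (O := X.presheaf)) (hu k l m W hk hl hm)
  let C : Groth.Agent.H97.GlueLine.Cocycle V :=
    { u := fun k l => (uv k l : Γ(X, V k ⊓ V l))
      self := fun k W hW => by
        have := htrans k k k W (hW.trans inf_le_left) (hW.trans inf_le_left) (hW.trans inf_le_left)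
        rw [mul_eq_left] at this
        exact congrArg Units.val this
      trans := fun k l m W hk hl hm => congrArg Units.val (htrans k l m W hk hl hm) }
  have h2 : ∀ k l, V k ⊓ V l ≤ inter (X := X.toTopCat) U ![r k, r l] := fun k l => le_iInf fun a => by
    fin_cases a
    · exact inf_le_left.trans (hV k)
    · exact inf_le_right.trans (hV l)
  have hCi : ∀ (k l : X),
      rs L₀ (i.preimage_mono (inf_le_right.trans (hV l))) (e (r l)) =
        i.app (V k ⊓ V l) (C.tr k l inf_le_left inf_le_right) •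
          rs L₀ (i.preimage_mono (inf_le_left.trans (hV k))) (e (r k)) := by
    intro k l
    refine (hres ![r k, r l] _ (h2 k l) (inf_le_left.trans (hV k)) (inf_le_right.trans (hV l))).trans ?_
    refine congrArg (· • rs L₀ (i.preimage_mono (inf_le_left.trans (hV k))) (e (r k))) ?_
    rw [← hui k l (h2 k l)]
    show i.app _ (uv k l : Γ(X, V k ⊓ V l)) = i.app _ (rf (le_inf inf_le_left inf_le_right) _)
    rw [rf_self]
  let L := Groth.Agent.H97.GlueLine.glue C
  refine ⟨L, Groth.Agent.H97.GlueLine.isInvertible_glue C hVtop, ?_⟩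
  have hcovZ : iSup (fun k => i ⁻¹ᵁ V k) = ⊤ := eq_top_iff.2 fun z _ => by
    obtain ⟨k, hk⟩ := Opens.mem_iSup.1 (hVtop.ge (Opens.mem_top (i z)))
    exact Opens.mem_iSup.2 ⟨k, hk⟩
  obtain ⟨φ, -⟩ := Groth.Agent.Lib.TensorMod.HomGlue.exists_iso_of_gen (L := (pb i).obj L) (M := L₀) hcovZ
    (fun k => unitSec i L (Groth.Agent.H97.GlueLine.gen C k))
    (fun k => isGen_unitSec i (Groth.Agent.H97.GlueLine.isGen_gen C k))
    (fun k => rs L₀ (i.preimage_mono (hV k)) (e (r k)))
    (fun k => (he (r k)).res (i.preimage_mono (hV k)))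
    fun k l W hk hl d hd => by
      have hW' : W ≤ i ⁻¹ᵁ (V l ⊓ V k) := fun x hx => ⟨hl hx, hk hx⟩
      have hgen := Groth.Agent.H97.GlueLine.rs_gen C l k (inf_le_left : V l ⊓ V k ≤ V l) inf_le_right
      have h2 := congrArg (fun s : Γ(L, V l ⊓ V k) =>
        rs ((pb i).obj L) hW' (unitSec i L s)) hgen
      rw [Groth.Agent.Lib.Modules.ProjFormula.unitSec_smul, rs_smul,
        ← Groth.Agent.Lib.Modules.ProjFormula.unitSec_rs, ← Groth.Agent.Lib.Modules.ProjFormula.unitSec_rs] at h2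
      have hd' := smul_inj ((isGen_unitSec i (Groth.Agent.H97.GlueLine.isGen_gen C l)).res hl)
        (hd.symm.trans ((rs_rs _ _ _ _).symm.trans (h2.trans (congrArg (_ • ·) (rs_rs _ _ _ _)))))
      have h3 := (congrArg (rs L₀ hW')
        (hCi l k)).trans (rs_smul L₀ _ _ _)
      rw [rs_rs, rs_rs] at h3
      rw [rs_rs, rs_rs, h3, hd']
  exact ⟨φ⟩

end

end Groth.Agent.H78.LefPic
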