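import Groth.Agent.H78.LefPic.Main
import Groth.Agent.H78.LefPic.LiftPic
import Groth.Prelude.Def_LefX
import Groth.Prelude.Def_Formal2
import Mathlib.AlgebraicGeometry.Restrict

/-!
# Line bundles on thickenings come from neighbourhoods under the effective Lefschetz condition
-/

set_option autoImplicit false
set_option linter.style.haveILetI false
set_option maxHeartbeats 1000000
universe u

open CategoryTheory CategoryTheory.Limits AlgebraicGeometry TopologicalSpace Opposite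

namespace Groth.Agent.H78.LefPic

open Groth.Agent.Lib.TensorMod.Gen Groth.Agent.Lib.TensorMod.Pullback Groth.Agent.Lib.Ample.GenLocus

noncomputable section

variable {X : Scheme.{u}} (𝓘 : X.IdealSheafData)

/-- The thickenings. -/
abbrev W (m : ℕ) : Scheme.{u} := (𝓘 ^ (m + 1)).subscheme

theorem pow_le_pow {a b : ℕ} (h : a ≤ b) : 𝓘 ^ (b + 1) ≤ 𝓘 ^ (a + 1) := by
  obtain ⟨c, rfl⟩ := Nat.exists_eq_add_of_le h
  rw [show a + c + 1 = (a + 1) + c by omega, pow_add]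
  exact mul_le_of_le_one_right' le_top

/-- The inclusions of the thickenings. -/
abbrev wincl {a b : ℕ} (h : a ≤ b) : W 𝓘 a ⟶ W 𝓘 b := Scheme.IdealSheafData.inclusion (pow_le_pow 𝓘 h)

theorem wincl_comp {a b c : ℕ} (h : a ≤ b) (h' : b ≤ c) : wincl 𝓘 h ≫ wincl 𝓘 h' = wincl 𝓘 (h.trans h') :=
  Scheme.IdealSheafData.inclusion_comp _ _

theorem exists_lift_step (m : ℕ)
    (h : Subsingleton (Coh.HH X (kernel (Lef.quotMap (Lef.pow_succ_le 𝓘 m))) 2))
    {N : (W 𝓘 m).Modules} (hN : PicF.IsInvertible N) :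
    ∃ L : (W 𝓘 (m + 1)).Modules, PicF.IsInvertible L ∧
      Nonempty ((Scheme.Modules.pullback (wincl 𝓘 (Nat.le_succ m))).obj L ≅ N) := by
  let incl : W 𝓘 m ⟶ W 𝓘 (m + 1) := Scheme.IdealSheafData.inclusion (Lef.pow_succ_le 𝓘 m)
  haveI : IsClosedImmersion (incl ≫ (𝓘 ^ (m + 1 + 1)).subschemeι) := by
    rw [Scheme.IdealSheafData.inclusion_subschemeι]; infer_instance
  haveI : IsClosedImmersion incl := IsClosedImmersion.of_comp_isClosedImmersion incl (𝓘 ^ (m + 1 + 1)).subschemeι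
  haveI : Surjective incl := surjective_inclusion 𝓘 m
  let i := incl.ker.subschemeι
  let r : incl.ker.subscheme ⟶ W 𝓘 m := inv incl.toImage
  haveI : Surjective i := ⟨fun b => by
    obtain ⟨a, rfl⟩ := incl.surjective b
    exact ⟨incl.toImage a, by rw [← Scheme.Hom.comp_apply]; exact congr(($(incl.toImage_imageι)) a)⟩⟩
  obtain ⟨L, hL, ⟨e⟩⟩ := exists_lift_pic i (subsingleton_H_K_deg 𝓘 m 2 h)
    (PicLoc.isInvertible_pullback r hN)
  refine ⟨L, hL, ⟨?_⟩⟩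
  exact (Scheme.Modules.pullbackCongr (show wincl 𝓘 (Nat.le_succ m) = incl.toImage ≫ i from
      incl.toImage_imageι.symm)).app L ≪≫
    ((Scheme.Modules.pullbackComp incl.toImage i).app L).symm ≪≫
    (Scheme.Modules.pullback incl.toImage).mapIso e ≪≫
    (Scheme.Modules.pullbackComp incl.toImage r).app N ≪≫
    (Scheme.Modules.pullbackCongr (IsIso.hom_inv_id incl.toImage)).app N ≪≫
    (Scheme.Modules.pullbackId _).app N

/-- A line bundle on a thickening extends to a formal line bundle. -/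
theorem exists_formal_line (n : ℕ)
    (h : ∀ m : ℕ, n ≤ m → Subsingleton (Coh.HH X (kernel (Lef.quotMap (Lef.pow_succ_le 𝓘 m))) 2))
    {N : (W 𝓘 n).Modules} (hN : PicF.IsInvertible N) :
    ∃ 𝔐 : FSch.ModSys (FSch.completionAlong X 𝓘), LefX.LevelwiseFinLocFree 𝔐 ∧ Nonempty (𝔐.F n ≅ N) := by
  classical
  have hstep : ∀ (j : ℕ) (L : {L : (W 𝓘 (n + j)).Modules // PicF.IsInvertible L}),
      ∃ L' : {L : (W 𝓘 (n + j + 1)).Modules // PicF.IsInvertible L},
        Nonempty ((Scheme.Modules.pullback (wincl 𝓘 (Nat.le_succ (n + j)))).obj L'.1 ≅ L.1) := fun j L => by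
    obtain ⟨L', hL', e⟩ := exists_lift_step 𝓘 (n + j) (h _ (Nat.le_add_right _ _)) L.2
    exact ⟨⟨L', hL'⟩, e⟩
  choose nxt hnxt using hstep
  let L : ∀ j : ℕ, {L : (W 𝓘 (n + j)).Modules // PicF.IsInvertible L} := fun j =>
    Nat.rec (motive := fun j => {L : (W 𝓘 (n + j)).Modules // PicF.IsInvertible L}) ⟨N, hN⟩ nxt j
  have hL : ∀ j, Nonempty ((Scheme.Modules.pullback (wincl 𝓘 (Nat.le_succ (n + j)))).obj (L (j + 1)).1 ≅ (L j).1) :=
    fun j => hnxt j (L j)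
  let eL := fun j => (hL j).some
  let F : ∀ m, (W 𝓘 m).Modules := fun m =>
    (Scheme.Modules.pullback (wincl 𝓘 (Nat.le_add_left m n))).obj (L m).1
  let e : ∀ m, (Scheme.Modules.pullback (wincl 𝓘 (Nat.le_succ m))).obj (F (m + 1)) ≅ F m := fun m =>
    (Scheme.Modules.pullbackComp (wincl 𝓘 (Nat.le_succ m)) (wincl 𝓘 (Nat.le_add_left (m + 1) n))).app _ ≪≫
    (Scheme.Modules.pullbackCongr (show wincl 𝓘 (Nat.le_succ m) ≫ wincl 𝓘 (Nat.le_add_left (m + 1) n) =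
        wincl 𝓘 (Nat.le_add_left m n) ≫ wincl 𝓘 (Nat.le_succ (n + m)) by
      rw [wincl_comp, wincl_comp])).app _ ≪≫
    ((Scheme.Modules.pullbackComp (wincl 𝓘 (Nat.le_add_left m n)) (wincl 𝓘 (Nat.le_succ (n + m)))).app _).symm ≪≫
    (Scheme.Modules.pullback (wincl 𝓘 (Nat.le_add_left m n))).mapIso (eL m)
  refine ⟨{ F := F, e := e }, fun m => Lib.TensorMod.LocFree.of_rank
    (Lib.TensorMod.LocFree.of_isInvertible (PicLoc.isInvertible_pullback _ (L m).2)), ?_⟩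
  have key : ∀ j, Nonempty ((Scheme.Modules.pullback (wincl 𝓘 (Nat.le_add_right n j))).obj (L j).1 ≅ N) := by
    intro j
    induction j with
    | zero =>
      exact ⟨(Scheme.Modules.pullbackCongr (Scheme.IdealSheafData.inclusion_id (𝓘 ^ (n + 1)))).app _ ≪≫
        (Scheme.Modules.pullbackId _).app N⟩
    | succ j ih =>
      exact ⟨(Scheme.Modules.pullbackCongr (show wincl 𝓘 (Nat.le_add_right n (j + 1)) =
          wincl 𝓘 (Nat.le_add_right n j) ≫ wincl 𝓘 (Nat.le_succ (n + j)) from (wincl_comp 𝓘 _ _).symm)).app _ ≪≫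
        ((Scheme.Modules.pullbackComp (wincl 𝓘 (Nat.le_add_right n j)) (wincl 𝓘 (Nat.le_succ (n + j)))).app _).symm ≪≫
        (Scheme.Modules.pullback (wincl 𝓘 (Nat.le_add_right n j))).mapIso (eL j) ≪≫ ih.some⟩
  exact key n

/-- Free modules of different ranks differ on a nonempty scheme. -/
theorem eq_one_of_freeMod_iso {Z : Scheme.{u}} [Nonempty Z] {k : ℕ}
    (φ : FlatMod.freeMod Z k ≅ Coh.structureModule Z) : k = 1 := by
  classical
  let val : (Coh.structureModule Z ⟶ Coh.structureModule Z) → Γ(Z, ⊤) :=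
    fun a => a.app ⊤ (1 : Γ(Z, ⊤))
  have hmul : ∀ a b, val (a ≫ b) = val a * val b := fun a b => by
    show b.app ⊤ (a.app ⊤ (1 : Γ(Z, ⊤))) = _
    have h := Scheme.Modules.Hom.app_smul b (val a) (1 : Γ(Z, ⊤))
    refine Eq.trans ?_ h
    exact congrArg (b.app ⊤) (mul_one (val a)).symm
  have hone : val (𝟙 _) = 1 := rfl
  have hzero : val 0 = 0 := rfl
  haveI : Nontrivial Γ(Z, ⊤) := by
    obtain ⟨z⟩ := ‹Nonempty Z›
    refine RingHom.domain_nontrivial (Z.presheaf.germ ⊤ z trivial).hom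
  rcases k with _ | _ | k
  · exfalso
    have h0 : IsZero (Coh.structureModule Z) := by
      refine IsZero.of_iso ?_ φ.symm
      rw [IsZero.iff_id_eq_zero]
      exact Sigma.hom_ext _ _ fun i => i.elim0
    have := congrArg val (h0.eq_of_src (𝟙 _) 0)
    rw [hone, hzero] at this
    exact one_ne_zero this
  · rfl
  · exfalso
    let pr : Fin (k + 2) → (FlatMod.freeMod Z (k + 2) ⟶ Coh.structureModule Z) := fun i =>
      Sigma.desc fun j => if j = i then 𝟙 _ else 0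
    let a : Fin (k + 2) → Γ(Z, ⊤) := fun i => val (Sigma.ι (fun _ : Fin (k + 2) => Coh.structureModule Z) i ≫ φ.hom)
    let b : Fin (k + 2) → Γ(Z, ⊤) := fun i => val (φ.inv ≫ pr i)
    have hab : ∀ i j, a j * b i = if j = i then 1 else 0 := fun i j => by
      rw [← hmul, Category.assoc, Iso.hom_inv_id_assoc]
      show val (Sigma.ι (fun _ : Fin (k + 2) => Coh.structureModule Z) j ≫ Sigma.desc _) = _
      rw [Sigma.ι_desc]
      split <;> assumption'
    have h00 := hab 0 0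
    have h11 := hab 1 1
    have h01 := hab 1 0
    rw [if_pos rfl] at h00 h11
    rw [if_neg (by simp)] at h01
    have : b 1 = 0 := by
      have h2 : (a 0 * b 1) * b 0 = (a 0 * b 0) * b 1 := by ring
      rw [h01, h00, zero_mul, one_mul] at h2
      exact h2.symm
    rw [this, mul_zero] at h11
    exact zero_ne_one h11

/-- A locally free module whose pullback is invertible is invertible near the image. -/
theorem exists_invertible_nhd {Z Y : Scheme.{u}} (g : Z ⟶ Y) {E : Y.Modules}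
    (hE : FlatMod.IsFinLocFree E) (hN : PicF.IsInvertible ((pb g).obj E)) :
    ∃ V : Y.Opens, Set.range g ⊆ (V : Set Y) ∧ PicF.IsInvertible (E.restrict V.ι) := by
  let V : Y.Opens := sSup {O : Y.Opens | Nonempty (E.restrict O.ι ≅ Coh.structureModule (O : Scheme.{u}))}
  refine ⟨V, ?_, ?_⟩
  · rintro _ ⟨z, rfl⟩
    obtain ⟨O, k, hzO, ⟨φ⟩⟩ := hE (g z)
    obtain ⟨ψ⟩ := Lib.TensorMod.LocFree.pullback_iso_of_restrict_iso g φ
    obtain ⟨T, hzT, ⟨t⟩⟩ := hN z
    obtain ⟨ψ'⟩ := Lib.TensorMod.LocFree.exists_restrict_iso_freeMod (inf_le_left : g ⁻¹ᵁ O ⊓ T ≤ g ⁻¹ᵁ O) ψ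
    obtain ⟨t'⟩ := Lib.TensorMod.LocFree.exists_restrict_iso_freeMod (inf_le_right : g ⁻¹ᵁ O ⊓ T ≤ T)
      (t ≪≫ (Lib.TensorMod.LocFree.freeModOneIso _).symm)
    haveI : Nonempty ((g ⁻¹ᵁ O ⊓ T : Z.Opens) : Scheme.{u}) := ⟨⟨z, hzO, hzT⟩⟩
    have hk := eq_one_of_freeMod_iso (ψ'.symm ≪≫ t' ≪≫ Lib.TensorMod.LocFree.freeModOneIso _)
    subst hk
    exact Opens.mem_sSup.2 ⟨O, ⟨φ ≪≫ Lib.TensorMod.LocFree.freeModOneIso _⟩, hzO⟩
  · intro x
    obtain ⟨O, ⟨φ⟩, hxO⟩ := Opens.mem_sSup.1 x.2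
    refine ⟨V.ι ⁻¹ᵁ O, hxO, ⟨?_⟩⟩
    have hOV : O ≤ V := le_sSup ⟨φ⟩
    let j : ((V.ι ⁻¹ᵁ O : (V : Scheme.{u}).Opens) : Scheme.{u}) ⟶ (O : Scheme.{u}) := V.ι ∣_ O
    exact ((Scheme.Modules.restrictFunctorComp (V.ι ⁻¹ᵁ O).ι V.ι).app E).symm ≪≫
      (Scheme.Modules.restrictFunctorCongr (morphismRestrict_ι V.ι O).symm).app E ≪≫
      (Scheme.Modules.restrictFunctorComp j (Scheme.Opens.ι O)).app E ≪≫
      (Scheme.Modules.restrictFunctor j).mapIso φ ≪≫ Scheme.Modules.restrictUnitIso j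

variable {𝓘}

theorem colim_surjective (hLeff : LefX.LeffCond X 𝓘) (n : ℕ)
    (h : ∀ m : ℕ, n ≤ m → Subsingleton (Coh.HH X (kernel (Lef.quotMap (Lef.pow_succ_le 𝓘 m))) 2))
    {N : (W 𝓘 n).Modules} (hN : PicF.IsInvertible N) :
    ∃ (U : X.Opens) (L : (U : Scheme.{u}).Modules) (g : W 𝓘 n ⟶ U),
      (𝓘.support : Set X) ⊆ (U : Set X) ∧ g ≫ U.ι = (𝓘 ^ (n + 1)).subschemeι ∧ PicF.IsInvertible L ∧
        Nonempty ((Scheme.Modules.pullback g).obj L ≅ N) := by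
  obtain ⟨𝔐, h𝔐, ⟨eN⟩⟩ := exists_formal_line 𝓘 n h hN
  obtain ⟨U, E, hU, hE, ⟨θ⟩⟩ := hLeff.2 𝔐 h𝔐
  let g := toOpen 𝓘 U hU n
  let P := (Scheme.Modules.pushforward U.ι).obj E
  let c : (Scheme.Modules.pullback U.ι).obj P ≅ E :=
    ((Scheme.Modules.restrictFunctorIsoPullback U.ι).app P).symm ≪≫
      asIso ((Scheme.Modules.restrictAdjunction U.ι).counit.app E)
  let θn : (FSch.completionMod 𝓘 P).F n ≅ 𝔐.F n :=
    ⟨θ.hom.app n, θ.inv.app n, congrArg (fun t => t.app n) θ.hom_inv_id,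
      congrArg (fun t => t.app n) θ.inv_hom_id⟩
  let eE : (pb g).obj E ≅ N :=
    (pb g).mapIso c.symm ≪≫ (Scheme.Modules.pullbackComp g U.ι).app P ≪≫
      (Scheme.Modules.pullbackCongr (toOpen_ι 𝓘 U hU n)).app P ≪≫ θn ≪≫ eN
  obtain ⟨V, hgV, hV⟩ := exists_invertible_nhd g hE
    (Lib.TensorMod.Invertible.isInvertible_of_iso eE.symm hN)
  let U' : X.Opens := U.ι ''ᵁ V
  have hU'U : U' ≤ U := U.ι_image_le V
  have hsupp : (𝓘.support : Set X) ⊆ (U' : Set X) := fun x hx => by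
    obtain ⟨z, hz⟩ : x ∈ Set.range (𝓘 ^ (n + 1)).subschemeι := by
      rw [Scheme.IdealSheafData.range_subschemeι, Scheme.IdealSheafData.support_pow_succ]; exact hx
    exact ⟨g z, hgV ⟨z, rfl⟩, by rw [← hz, ← toOpen_ι 𝓘 U hU n]; rfl⟩
  let j : (U' : Scheme.{u}) ≅ (V : Scheme.{u}) := (U.ι.isoImage V).symm
  have hj : j.hom ≫ V.ι ≫ U.ι = U'.ι := by
    rw [← Iso.eq_inv_comp]
    exact (Scheme.Hom.isoImage_hom_ι U.ι V).symm
  let L := (pb (j.hom ≫ V.ι)).obj E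
  refine ⟨U', L, toOpen 𝓘 U' hsupp n, hsupp, toOpen_ι _ _ _ _, ?_, ⟨?_⟩⟩
  · exact Lib.TensorMod.Invertible.isInvertible_of_iso ((Scheme.Modules.pullbackComp j.hom V.ι).app E)
      (PicLoc.isInvertible_pullback j.hom (Lib.TensorMod.Invertible.isInvertible_of_iso
        ((Scheme.Modules.restrictFunctorIsoPullback V.ι).app E) hV))
  · refine (Scheme.Modules.pullbackComp (toOpen 𝓘 U' hsupp n) (j.hom ≫ V.ι)).app E ≪≫
      (Scheme.Modules.pullbackCongr ?_).app E ≪≫ eE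
    rw [← cancel_mono U.ι, Category.assoc, Category.assoc, hj, toOpen_ι, toOpen_ι]

theorem colim_injective (hLef : Lef.LefCond X 𝓘) (n : ℕ)
    (h : ∀ m : ℕ, n ≤ m → Subsingleton (Coh.HH X (kernel (Lef.quotMap (Lef.pow_succ_le 𝓘 m))) 1))
    (U : X.Opens) (hU : (𝓘.support : Set X) ⊆ (U : Set X)) (L : (U : Scheme.{u}).Modules)
    (g : W 𝓘 n ⟶ U) (hg : g ≫ U.ι = (𝓘 ^ (n + 1)).subschemeι) (hL : PicF.IsInvertible L)
    (t : (Scheme.Modules.pullback g).obj L ≅ Coh.structureModule _) :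
    Nonempty (L ≅ Coh.structureModule (U : Scheme.{u})) := by
  obtain ⟨r, hr⟩ := exists_factor 𝓘 U hU n
  have hr' : ((𝓘.comap U.ι) ^ (n + 1)).subschemeι = r.inv ≫ g := by
    rw [Iso.eq_inv_comp, hr, ← cancel_mono U.ι, toOpen_ι, hg]
  refine iso_of_thickening_iso hU (hLef U hU) n h hL (PicLoc.isInvertible_structureModule _)
    ((Scheme.Modules.pullbackCongr hr').app L ≪≫ ((Scheme.Modules.pullbackComp r.inv g).app L).symm ≪≫
      (Scheme.Modules.pullback r.inv).mapIso t ≪≫ PicLoc.pullbackStructureIso r.inv ≪≫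
      (PicLoc.pullbackStructureIso _).symm)

end

end Groth.Agent.H78.LefPic
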