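import Groth.Agent.H95.Torsor.Iso
import Groth.Agent.H95.LefFEt.FormalHom
import Groth.Agent.Lib.CohDelta.Units

/-!
# Generators of pullbacks of a line bundle along thickenings
-/

set_option autoImplicit false
set_option linter.style.haveILetI false
universe u

open CategoryTheory CategoryTheory.Limits AlgebraicGeometry TopologicalSpace Opposite

namespace Groth.Agent.H78.LefPic

open Groth.Agent.Lib.TensorMod.Gen Groth.Agent.Lib.TensorMod.Dual Groth.Agent.Lib.TensorMod.Pullback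
  Groth.Agent.Lib.Ample.GenLocus Groth.Agent.Lib.TensorMod.LocIso
open Groth.Agent.H95.Units (K ev ev_add ev_res ev_injective)
open Groth.Agent.H95.Torsor (exists_smul_eq smul_inj isUnit_of_gen_eq isUnit_of_app exists_ev_of_app_eq_one
  app_ev rf_app exists_glue exists_coboundary)
open Groth.Agent.Lib.Modules.TensorSec Groth.Agent.Lib.TensorMod.HomGlue Groth.Agent.Lib.TensorMod

noncomputable section

variable {X Z : Scheme.{u}} {L : X.Modules} (i : Z ⟶ X) [IsClosedImmersion i] [Surjective i]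

/-- A generator on the closed subscheme lifts to a generator when `H¹` of `1 + I` vanishes. -/
theorem exists_gen_lift (h : Subsingleton (CohTop.H (K i) 1)) (hL : PicF.IsInvertible L)
    (e₀ : Γ((Scheme.Modules.pullback i).obj L, ⊤)) (he₀ : IsGen ((Scheme.Modules.pullback i).obj L) ⊤ e₀) :
    ∃ t : Γ(L, ⊤), IsGen L ⊤ t ∧ unitSec i L t = e₀ := by
  let P := (Scheme.Modules.pullback i).obj L
  choose U e hxU he hη using H95.Torsor.exists_good_gen i hL he₀
  have hU : iSup U = ⊤ := eq_top_iff.2 fun x _ => Opens.mem_iSup.2 ⟨x, hxU x⟩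
  -- transition units
  have hc : ∀ (a b : X) (V : X.Opens) (ha : V ≤ U a) (hb : V ≤ U b),
      ∃ m : (K i).obj.obj (op V), (ev i m : Γ(X, V)) • rs L hb (e b) = rs L ha (e a) := by
    intro a b V ha hb
    obtain ⟨c, hc⟩ := exists_smul_eq ((he b).res hb) (rs L ha (e a))
    have hcu := isUnit_of_gen_eq ((he b).res hb) ((he a).res ha) hc
    obtain ⟨m, hm⟩ := exists_ev_of_app_eq_one i hcu.unit (by
      refine smul_inj (L := P) (he₀.res (le_top (a := i ⁻¹ᵁ V))) ?_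
      rw [one_smul]
      change i.app V c • _ = _
      have h1 : rs P (le_top (a := i ⁻¹ᵁ V)) e₀ = unitSec i L (rs L hb (e b)) := by
        rw [← unitSec_rs, hη, rs_rs]
      rw [h1]
      refine (unitSec_smul i c _).symm.trans ?_
      rw [hc, ← unitSec_rs, ← unitSec_rs, hη, hη, rs_rs, rs_rs])
    exact ⟨m, by rw [hm, IsUnit.unit_spec]; exact hc⟩
  open Groth.Agent.Lib.Cech.Complex in
  let c : Cochain (X := X.toTopCat) U (K i).obj 1 := fun j =>
    (hc (j 0) (j 1) (inter U j) (inter_le U j 0) (inter_le U j 1)).choose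
  have hcspec : ∀ j : Fin 2 → X,
      (ev i (c j) : Γ(X, Groth.Agent.Lib.Cech.Complex.inter (X := X.toTopCat) U j)) •
        rs L (Groth.Agent.Lib.Cech.Complex.inter_le (X := X.toTopCat) U j 1) (e (j 1)) =
      rs L (Groth.Agent.Lib.Cech.Complex.inter_le (X := X.toTopCat) U j 0) (e (j 0)) := fun j =>
    (hc (j 0) (j 1) _ _ _).choose_spec
  open Groth.Agent.Lib.Cech.Complex in
  have hres : ∀ (j : Fin 2 → X) (V : X.Opens) (hV : V ≤ inter (X := X.toTopCat) U j)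
      (h0 : V ≤ U (j 0)) (h1 : V ≤ U (j 1)),
      (ev i (res (K i).obj hV (c j)) : Γ(X, V)) • rs L h1 (e (j 1)) = rs L h0 (e (j 0)) := by
    intro j V hV h0 h1
    have := congrArg (rs L hV) (hcspec j)
    rw [rs_smul, rs_rs, rs_rs] at this
    refine (congrArg (· • rs L h1 (e (j 1))) ?_).trans this
    exact ev_res i hV (c j)
  open Groth.Agent.Lib.Cech.Complex in
  have hcoc : dC (X := X.toTopCat) U (K i).obj 1 c = 0 := by
    funext j
    let V : X.Opens := inter (X := X.toTopCat) U j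
    let m : Fin 3 → (K i).obj.obj (op V) := fun k => res (K i).obj (inter_le_face U j k) (c (j ∘ k.succAbove))
    let E : ∀ k : Fin 3, Γ(L, V) := fun k => rs L (inter_le U j k) (e (j k))
    have h0 : (ev i (m 0) : Γ(X, V)) • E 2 = E 1 :=
      hres (j ∘ (0 : Fin 3).succAbove) V (inter_le_face U j 0) (inter_le U j 1) (inter_le U j 2)
    have h1 : (ev i (m 1) : Γ(X, V)) • E 2 = E 0 :=
      hres (j ∘ (1 : Fin 3).succAbove) V (inter_le_face U j 1) (inter_le U j 0) (inter_le U j 2)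
    have h2 : (ev i (m 2) : Γ(X, V)) • E 1 = E 0 :=
      hres (j ∘ (2 : Fin 3).succAbove) V (inter_le_face U j 2) (inter_le U j 0) (inter_le U j 1)
    have hm : m 1 = m 2 + m 0 := ev_injective i (Units.ext (smul_inj ((he (j 2)).res (inter_le U j 2)) (by
      rw [ev_add, Units.val_mul, mul_smul]
      exact h1.trans (h2.symm.trans (congrArg ((ev i (m 2) : Γ(X, V)) • ·) h0.symm)))))
    rw [dC_apply, Pi.zero_apply, Fin.sum_univ_three]
    change (1 : ℤ) • m 0 + (-1 : ℤ) • m 1 + (1 : ℤ) • m 2 = 0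
    rw [hm]
    abel
  obtain ⟨a, ha⟩ := exists_coboundary (X := X.toTopCat) (K i) h U hU c hcoc
  open Groth.Agent.Lib.Cech.Complex in
  let A : ∀ x, (K i).obj.obj (op (U x)) := fun x =>
    res (K i).obj (le_iInf fun _ => le_rfl : U x ≤ inter (X := X.toTopCat) U fun _ : Fin 1 => x) (a fun _ => x)
  let s : ∀ x, Γ(L, U x) := fun x => (ev i (A x) : Γ(X, U x)) • e x
  have hs : ∀ x y, rs L (inf_le_left : U x ⊓ U y ≤ U x) (s x) = rs L (inf_le_right : U x ⊓ U y ≤ U y) (s y) := by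
    open Groth.Agent.Lib.Cech.Complex in
    intro x y
    let V : X.Opens := U x ⊓ U y
    have hV : V ≤ inter (X := X.toTopCat) U ![x, y] := le_iInf fun k => by
      fin_cases k
      · exact inf_le_left
      · exact inf_le_right
    have key : res (K i).obj (inf_le_right : V ≤ U y) (A y) =
        res (K i).obj hV (c ![x, y]) + res (K i).obj (inf_le_left : V ≤ U x) (A x) := by
      rw [← sub_eq_iff_eq_add, ← congr_fun ha ![x, y], dC_apply, Fin.sum_univ_two, map_add,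
        map_zsmul, map_zsmul, res_res, res_res, res_res, res_res,
        cochain_congr U (K i).obj a (show (![x, y] ∘ (0 : Fin 2).succAbove) = fun _ => y from
          funext fun k => by fin_cases k; rfl) _ (le_iInf fun _ => inf_le_right),
        cochain_congr U (K i).obj a (show (![x, y] ∘ (1 : Fin 2).succAbove) = fun _ => x from
          funext fun k => by fin_cases k; rfl) _ (le_iInf fun _ => inf_le_left)]
      change _ = (1 : ℤ) • _ + (-1 : ℤ) • _
      rw [one_smul, neg_one_smul, sub_eq_add_neg]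
    have h1 := hres ![x, y] V hV inf_le_left inf_le_right
    change _ = rs L inf_le_left (e x) at h1
    change rs L _ ((ev i (A x) : Γ(X, U x)) • e x) = rs L _ ((ev i (A y) : Γ(X, U y)) • e y)
    rw [rs_smul, rs_smul, ← h1]
    change rf inf_le_left (ev i (A x) : Γ(X, U x)) • (ev i (res (K i).obj hV (c ![x, y])) : Γ(X, V)) •
      rs L inf_le_right (e y) = _
    rw [smul_smul]
    refine congrArg (· • rs L inf_le_right (e y)) ?_
    refine Eq.trans ?_ (ev_res i (inf_le_right : V ≤ U y) (A y))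
    change _ = (ev i (res (K i).obj (inf_le_right : V ≤ U y) (A y)) : Γ(X, V))
    rw [key, ev_add, Units.val_mul, mul_comm]
    exact congrArg ((ev i (res (K i).obj hV (c ![x, y])) : Γ(X, V)) * ·) (ev_res i inf_le_left (A x)).symm
  obtain ⟨t, ht⟩ := exists_glue U hU s hs
  obtain ⟨φ, hφ⟩ := exists_hom_of_family (M := L) (fun W => rs L le_top t) fun V W hVW => rs_rs L _ _ t
  haveI : IsIso φ := Lib.Modules.Local.isIso_of_restrict U hU φ fun x => by
    refine (isIso_restrict_iff φ (U x)).2 ?_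
    rw [show sv φ (U x) = s x from (hφ (U x)).trans (ht x)]
    exact IsGen_smul_isUnit (he x) (Units.isUnit _)
  refine ⟨t, ?_, ?_⟩
  · have h1 := isGen_of_isIso_over (isIso_over_of_iso (asIso φ) ⊤) (Groth.Agent.Lib.Ample.GenLocus.isGen_one ⊤)
    rwa [show (asIso φ).hom.app ⊤ (one X ⊤) = t from (hφ ⊤).trans (rs_self L le_rfl t)] at h1
  · refine section_ext _ _ _ fun z _ => ⟨i ⁻¹ᵁ U (i z), le_top, hxU (i z), ?_⟩
    refine (unitSec_rs i (le_top : U (i z) ≤ ⊤) t).trans ?_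
    rw [ht, unitSec_smul, app_ev, one_smul, hη]
    rfl


variable {A B Y : Scheme.{u}} (P : Y.Modules)

/-- `a` lifts the global section `e` of the pullback. -/
def Lifts (g : B ⟶ Y) (e : Γ((pb g).obj P, ⊤)) (U : Y.Opens) (a : Γ(P, U)) : Prop :=
  unitSec g P a = rs ((pb g).obj P) (le_top : g ⁻¹ᵁ U ≤ ⊤) e

theorem comp_unitSec (r : A ⟶ B) (g : B ⟶ Y) (U : Y.Opens) (a : Γ(P, U)) :
    ((Scheme.Modules.pullbackComp r g).hom.app P).app ((r ≫ g) ⁻¹ᵁ U)
      (unitSec r ((pb g).obj P) (unitSec g P a)) = unitSec (r ≫ g) P a :=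
  Lib.CohDelta.Units.comp_eta r g P U a

theorem exists_down (r : A ⟶ B) (g : B ⟶ Y) (f : A ⟶ Y) (hf : r ≫ g = f) (e : Γ((pb g).obj P, ⊤)) :
    ∃ e' : Γ((pb f).obj P, ⊤), (IsGen ((pb g).obj P) ⊤ e → IsGen ((pb f).obj P) ⊤ e') ∧
      ∀ (U : Y.Opens) (a : Γ(P, U)), Lifts P g e U a → Lifts P f e' U a := by
  subst hf
  let c := (Scheme.Modules.pullbackComp r g).app P
  refine ⟨c.hom.app ⊤ (unitSec r _ e), fun he => ?_, fun U a ha => ?_⟩
  · exact isGen_of_isIso_over (isIso_over_of_iso c ⊤) (isGen_unitSec r he)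
  · refine (comp_unitSec P r g U a).symm.trans ?_
    rw [show unitSec g P a = rs ((pb g).obj P) le_top e from ha]
    refine Eq.trans ?_ (rs_app c.hom (le_top : (r ≫ g) ⁻¹ᵁ U ≤ ⊤) (unitSec r _ e)).symm
    exact congrArg (c.hom.app ((r ≫ g) ⁻¹ᵁ U)) (unitSec_rs r le_top e).symm

theorem exists_up (i : A ⟶ B) [IsClosedImmersion i] [Surjective i] (h : Subsingleton (CohTop.H (K i) 1))
    (g : B ⟶ Y) (f : A ⟶ Y) (hf : i ≫ g = f) (hP : PicF.IsInvertible P) (e : Γ((pb f).obj P, ⊤))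
    (he : IsGen ((pb f).obj P) ⊤ e) :
    ∃ e' : Γ((pb g).obj P, ⊤), IsGen ((pb g).obj P) ⊤ e' ∧
      ∀ (U : Y.Opens) (a : Γ(P, U)), Lifts P g e' U a → Lifts P f e U a := by
  subst hf
  let c := (Scheme.Modules.pullbackComp i g).app P
  have hgen : IsGen ((pb i).obj ((pb g).obj P)) ⊤ (c.inv.app ⊤ e) :=
    isGen_of_isIso_over (isIso_over_of_iso c.symm ⊤) he
  obtain ⟨t, ht, hte⟩ := exists_gen_lift i h (PicLoc.isInvertible_pullback g hP) _ hgen
  refine ⟨t, ht, fun U a ha => ?_⟩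
  refine (comp_unitSec P i g U a).symm.trans ?_
  rw [show unitSec g P a = rs ((pb g).obj P) le_top t from ha]
  refine Eq.trans (congrArg (c.hom.app ((i ≫ g) ⁻¹ᵁ U)) (unitSec_rs i le_top t).symm) ?_
  rw [hte]
  refine (rs_app c.hom (le_top : (i ≫ g) ⁻¹ᵁ U ≤ ⊤) _).symm.trans ?_
  exact congrArg (rs _ le_top) (congr(($(c.inv_hom_id)).app ⊤ e))

variable {P}

theorem exists_lift (g : B ⟶ Y) [IsClosedImmersion g] {U : Y.Opens} (hU : IsAffineOpen U)
    {ε : Γ(P, U)} (hε : IsGen P U ε) (e : Γ((pb g).obj P, ⊤)) :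
    ∃ w : Γ(Y, U), Lifts P g e U (w • ε) := by
  obtain ⟨c, hc⟩ := exists_smul_eq (isGen_unitSec g hε) (rs ((pb g).obj P) (le_top : g ⁻¹ᵁ U ≤ ⊤) e)
  obtain ⟨w, rfl⟩ := g.app_surjective U hU c
  exact ⟨w, (unitSec_smul g w ε).trans hc⟩

theorem isUnit_of_lift (g : B ⟶ Y) {U : Y.Opens} {ε : Γ(P, U)} (hε : IsGen P U ε)
    {e : Γ((pb g).obj P, ⊤)} (he : IsGen ((pb g).obj P) ⊤ e) {w : Γ(Y, U)}
    (hw : Lifts P g e U (w • ε)) : IsUnit (g.app U w) :=
  isUnit_of_gen_eq (isGen_unitSec g hε) (he.res le_top) ((unitSec_smul g w ε).symm.trans hw)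

theorem exists_affine_gen (hP : PicF.IsInvertible P) {V : Y.Opens} {y : Y} (hy : y ∈ V) :
    ∃ (U : Y.affineOpens) (ε : Γ(P, U.1)), U.1 ≤ V ∧ y ∈ U.1 ∧ IsGen P U.1 ε := by
  obtain ⟨O, e, hyO, he⟩ := isInvertible_iff.1 hP y
  obtain ⟨U, hU, hyU, hle⟩ := exists_isAffineOpen_mem_and_subset (U := O ⊓ V) ⟨hyO, hy⟩
  exact ⟨⟨U, hU⟩, rs P (fun z hz => (hle hz).1) e, fun z hz => (hle hz).2, hyU, he.res _⟩

theorem eq_of_lifts (g : B ⟶ Y) [IsClosedImmersion g] (hP : PicF.IsInvertible P)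
    {e e' : Γ((pb g).obj P, ⊤)} (h : ∀ (U : Y.Opens) (a : Γ(P, U)), Lifts P g e U a → Lifts P g e' U a) :
    e = e' := by
  refine section_ext _ _ _ fun z _ => ?_
  obtain ⟨U, ε, -, hzU, hε⟩ := exists_affine_gen hP (V := ⊤) (y := g z) trivial
  obtain ⟨w, hw⟩ := exists_lift g U.2 hε e
  exact ⟨g ⁻¹ᵁ U.1, le_top, hzU, hw.symm.trans (h _ _ hw)⟩

/-- One step up a tower of thickenings. -/
theorem exists_step (incl : A ⟶ B) [IsClosedImmersion incl] [Surjective incl]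
    (h : Subsingleton (CohTop.H (K incl.ker.subschemeι) 1)) (g : A ⟶ Y) [IsClosedImmersion g]
    (g' : B ⟶ Y) (hg : incl ≫ g' = g) (hP : PicF.IsInvertible P) (e : Γ((pb g).obj P, ⊤))
    (he : IsGen ((pb g).obj P) ⊤ e) :
    ∃ e' : Γ((pb g').obj P, ⊤), IsGen ((pb g').obj P) ⊤ e' ∧
      ∀ (U : Y.Opens) (a : Γ(P, U)), Lifts P g' e' U a → Lifts P g e U a := by
  subst hg
  let i := incl.ker.subschemeι
  let r : incl.ker.subscheme ⟶ A := inv incl.toImage
  have hr : r ≫ incl = i := (IsIso.inv_comp_eq _).2 incl.toImage_imageι.symm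
  haveI : Surjective i := ⟨fun b => by
    obtain ⟨a, rfl⟩ := incl.surjective b
    exact ⟨incl.toImage a, by rw [← Scheme.Hom.comp_apply]; exact congr(($(incl.toImage_imageι)) a)⟩⟩
  obtain ⟨eW, heW, hdown⟩ := exists_down P r (incl ≫ g') (i ≫ g') (by rw [← Category.assoc, hr]) e
  obtain ⟨e', he', hup⟩ := exists_up P i h g' (i ≫ g') rfl hP eW (heW he)
  obtain ⟨e2, -, hback⟩ := exists_down P incl.toImage (i ≫ g') (incl ≫ g')
    (by rw [← Category.assoc, show incl.toImage ≫ i = incl from incl.toImage_imageι]) eW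
  have he2 : e = e2 := eq_of_lifts (incl ≫ g') hP fun U a ha => hback U a (hdown U a ha)
  exact ⟨e', he', fun U a ha => he2 ▸ hback U a (hup U a ha)⟩

/-- The morphism out of the dual given by a global section of the pullback. -/
theorem exists_dualHom (g : B ⟶ Y) [IsClosedImmersion g] (J : Y.IdealSheafData) (hJ : g.ker = J)
    (hP : PicF.IsInvertible P) (e : Γ((pb g).obj P, ⊤)) :
    ∃ y : dual P ⟶ ClSub.quotMod J, ∀ (U : Y.affineOpens) (ε : Γ(P, U.1)), IsGen P U.1 ε →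
      ∀ a : Γ(P, U.1), Lifts P g e U.1 a → ∀ ψ : DualSec P U.1,
        y.app U.1 ψ = (ClSub.toSubscheme J).app U.1 (ψ.app le_rfl a) := by
  subst hJ
  let Bas := {U : Y.affineOpens // ∃ ε : Γ(P, U.1), IsGen P U.1 ε}
  have hcov : ∀ {V : Y.Opens} {x : Y}, x ∈ V → ∃ U : Bas, U.1.1 ≤ V ∧ x ∈ U.1.1 := fun hx => by
    obtain ⟨U, ε, hle, hxU, hε⟩ := exists_affine_gen hP hx
    exact ⟨⟨U, ε, hε⟩, hle, hxU⟩
  have hne : ∀ U : Bas, ∃ a, Lifts P g e U.1.1 a := fun U => by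
    obtain ⟨w, hw⟩ := exists_lift g U.1.2 U.2.choose_spec e
    exact ⟨_, hw⟩
  choose a ha using hne
  have hres : ∀ {U V : Y.Opens} (h : V ≤ U) {b : Γ(P, U)}, Lifts P g e U b → Lifts P g e V (rs P h b) :=
    fun h b hb => ((unitSec_rs g h b).symm.trans (congrArg (rs _ _) hb)).trans (rs_rs _ _ _ _)
  have hdiff : ∀ (U : Bas) (b c : Γ(P, U.1.1)), Lifts P g e U.1.1 b → Lifts P g e U.1.1 c →
      ∀ ψ : DualSec P U.1.1, ψ.app le_rfl b - ψ.app le_rfl c ∈ g.ker.ideal U.1 := by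
    intro U b c hb hc ψ
    obtain ⟨ε, hε⟩ := U.2
    obtain ⟨vb, rfl⟩ := exists_smul_eq hε b
    obtain ⟨vc, rfl⟩ := exists_smul_eq hε c
    have h1 := ((unitSec_smul g vb ε).symm.trans hb).trans (((unitSec_smul g vc ε).symm.trans hc).symm)
    have h2 : g.app U.1.1 vb = g.app U.1.1 vc := smul_inj (isGen_unitSec g hε) h1
    rw [map_smul, map_smul, smul_eq_mul, smul_eq_mul, ← sub_mul]
    refine Ideal.mul_mem_right _ _ ?_
    rw [Scheme.Hom.ker_apply, RingHom.mem_ker, map_sub, sub_eq_zero]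
    exact h2
  let T : ∀ (U : Y.Opens) (ψ : DualSec P U) (b : Γ(P, U)), Γ(ClSub.quotMod g.ker, U) :=
    fun U ψ b => (ClSub.toSubscheme g.ker).app U (ψ.app le_rfl b)
  let Pr : ∀ (V : Y.Opens), DualSec P V → Γ(ClSub.quotMod g.ker, V) → Prop := fun V ψ s =>
    ∀ (U : Bas) (h : U.1.1 ≤ V) (b : Γ(P, U.1.1)), Lifts P g e U.1.1 b →
      rs _ h s = (ClSub.toSubscheme g.ker).app U.1.1 (ψ.app h b)
  have huniq : ∀ V ψ s s', Pr V ψ s → Pr V ψ s' → s = s' := by
    intro V ψ s s' hs hs'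
    refine section_ext _ _ _ fun x hx => ?_
    obtain ⟨U, hUV, hxU⟩ := hcov hx
    exact ⟨U.1.1, hUV, hxU, (hs U hUV _ (ha U)).trans (hs' U hUV _ (ha U)).symm⟩
  have hex : ∀ V ψ, ∃ s, Pr V ψ s := by
    intro V ψ
    let ι := {U : Bas // U.1.1 ≤ V}
    let t : ∀ i : ι, Γ(ClSub.quotMod g.ker, i.1.1.1) := fun i =>
      (ClSub.toSubscheme g.ker).app i.1.1.1 (ψ.app i.2 (a i.1))
    have key : ∀ (i : ι) (W : Bas) (h : W.1.1 ≤ i.1.1.1) (b : Γ(P, W.1.1)), Lifts P g e W.1.1 b →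
        rs _ h (t i) = (ClSub.toSubscheme g.ker).app W.1.1 (ψ.app (h.trans i.2) b) := by
      intro i W h b hb
      refine (rs_app (ClSub.toSubscheme g.ker) h _).trans ?_
      refine (congrArg ((ClSub.toSubscheme g.ker).app W.1.1) (ψ.compat i.2 h (a i.1))).trans
        (H95.LefFEt.FormalHom.toSub_eq g.ker W.1 ?_)
      exact hdiff W _ _ (hres h (ha i.1)) hb (dualRes P (h.trans i.2) ψ)
    have hcompat : ∀ i j : ι, rs _ (inf_le_left : i.1.1.1 ⊓ j.1.1.1 ≤ i.1.1.1) (t i) =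
        rs _ inf_le_right (t j) := fun i j => section_ext _ _ _ fun x hx => by
      obtain ⟨W, hW, hxW⟩ := hcov hx
      exact ⟨W.1.1, hW, hxW, by rw [rs_rs, rs_rs, key i W _ _ (ha W), key j W _ _ (ha W)]⟩
    obtain ⟨s, hs, -⟩ := TopCat.Sheaf.existsUnique_gluing'
      (⟨(ClSub.quotMod g.ker).presheaf, (ClSub.quotMod g.ker).isSheaf⟩ : TopCat.Sheaf Ab Y)
      (fun i : ι => i.1.1.1) V (fun i => homOfLE i.2)
      (fun x hx => by obtain ⟨U, hUV, hxU⟩ := hcov hx; exact Opens.mem_iSup.mpr ⟨⟨U, hUV⟩, hxU⟩)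
      t hcompat
    refine ⟨s, fun U h b hb => ?_⟩
    refine (show rs _ h s = t ⟨U, h⟩ from hs ⟨U, h⟩).trans ?_
    exact (rs_self _ le_rfl _).symm.trans (key ⟨U, h⟩ U le_rfl b hb)
  choose s hs using hex
  have hadd : ∀ V ψ ψ', s V (ψ + ψ') = s V ψ + s V ψ' := fun V ψ ψ' =>
    huniq V _ _ _ (hs V _) fun U h b hb => by
      rw [HomGlue.rs_add, hs V ψ U h b hb, hs V ψ' U h b hb, add_app]
      exact (map_add ((ClSub.toSubscheme g.ker).app U.1.1).hom _ _).symm
  have hsmul : ∀ V (r : Γ(Y, V)) ψ, s V (r • ψ) = r • s V ψ := fun V r ψ =>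
    huniq V _ _ _ (hs V _) fun U h b hb => by
      rw [rs_smul, hs V ψ U h b hb, smul_app, H95.LefFEt.FormalHom.toSub_smul]
  have hnat : ∀ V W (h : W ≤ V) (ψ : DualSec P V), s W (dualRes P h ψ) = rs _ h (s V ψ) :=
    fun V W h ψ => huniq W _ _ _ (hs W _) fun U hU b hb => by
      rw [rs_rs, hs V ψ U (hU.trans h) b hb, dualRes_app]
  refine ⟨⟨PresheafOfModules.homMk
    { app := fun V => AddCommGrpCat.ofHom (AddMonoidHom.mk' (fun ψ : DualSec P V.unop => s V.unop ψ)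
        (hadd V.unop))
      naturality := fun V W i => by ext ψ; exact hnat V.unop W.unop i.unop.le ψ }
    (fun V r ψ => hsmul V.unop r ψ)⟩, fun U ε hε b hb ψ => ?_⟩
  exact (rs_self _ le_rfl _).symm.trans (hs U.1 ψ ⟨U, ε, hε⟩ le_rfl b hb)

end

end Groth.Agent.H78.LefPic
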