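import Groth.Agent.H78.LefPic.Lift
import Groth.Agent.H78.LefPic.Coh
import Groth.Agent.H95.LefConn
import Groth.Agent.Lib.LefNFlat.Lef
import Groth.Agent.Lib.Ideal.Comap
import Groth.Agent.Lib.ExtShTensor
import Groth.Agent.Lib.TensorMod.LocFree

/-!
# `Pic(U) → Pic(Y_n)` is injective under the Lefschetz condition
-/

set_option autoImplicit false
set_option maxHeartbeats 1000000
set_option linter.style.haveILetI false
universe u

open CategoryTheory CategoryTheory.Limits AlgebraicGeometry TopologicalSpace Opposite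

namespace Groth.Agent.H78.LefPic

open Groth.Agent.Lib.TensorMod.Gen Groth.Agent.Lib.TensorMod.Dual Groth.Agent.Lib.TensorMod.Pullback
  Groth.Agent.Lib.Ample.GenLocus Groth.Agent.Lib.TensorMod.Invertible
open Groth.Agent.Lib.Modules.TensorSec Groth.Agent.Lib.TensorMod.HomGlue

noncomputable section

variable {X : Scheme.{u}} (𝓘 : X.IdealSheafData) (U : X.Opens)

/-- The thickenings inside `U`. -/
def toOpen (hU : (𝓘.support : Set X) ⊆ (U : Set X)) (m : ℕ) : (𝓘 ^ (m + 1)).subscheme ⟶ (U : Scheme.{u}) :=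
  IsOpenImmersion.lift U.ι (𝓘 ^ (m + 1)).subschemeι (by
    rw [Scheme.IdealSheafData.range_subschemeι, Scheme.IdealSheafData.support_pow_succ, Scheme.Opens.range_ι]
    exact hU)

theorem toOpen_ι (hU : (𝓘.support : Set X) ⊆ (U : Set X)) (m : ℕ) :
    toOpen 𝓘 U hU m ≫ U.ι = (𝓘 ^ (m + 1)).subschemeι := IsOpenImmersion.lift_fac _ _ _

theorem isClosedImmersion_toOpen (hU : (𝓘.support : Set X) ⊆ (U : Set X)) (m : ℕ) :
    IsClosedImmersion (toOpen 𝓘 U hU m) := by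
  haveI : IsClosedImmersion (toOpen 𝓘 U hU m ≫ U.ι) := by rw [toOpen_ι]; infer_instance
  exact IsClosedImmersion.of_comp _ U.ι

theorem inclusion_toOpen (hU : (𝓘.support : Set X) ⊆ (U : Set X)) (m : ℕ) :
    Scheme.IdealSheafData.inclusion (Lef.pow_succ_le 𝓘 m) ≫ toOpen 𝓘 U hU (m + 1) = toOpen 𝓘 U hU m := by
  rw [← cancel_mono U.ι, Category.assoc, toOpen_ι, toOpen_ι]
  exact Scheme.IdealSheafData.inclusion_subschemeι _

theorem exists_factor (hU : (𝓘.support : Set X) ⊆ (U : Set X)) (m : ℕ) :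
    ∃ r : (𝓘 ^ (m + 1)).subscheme ≅ ((𝓘.comap U.ι) ^ (m + 1)).subscheme,
      r.hom ≫ ((𝓘.comap U.ι) ^ (m + 1)).subschemeι = toOpen 𝓘 U hU m := by
  rw [← Lib.Ideal.Comap.comap_pow]
  let J := 𝓘 ^ (m + 1)
  haveI : IsIso (pullback.snd U.ι J.subschemeι) := by
    refine isIso_of_isOpenImmersion_of_opensRange_eq_top _ (Opens.ext ?_)
    show Set.range (pullback.snd U.ι J.subschemeι).base = Set.univ
    erw [IsOpenImmersion.range_pullbackSnd]
    refine Set.eq_univ_of_forall fun z => ?_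
    show J.subschemeι z ∈ Set.range U.ι
    rw [Scheme.Opens.range_ι]
    refine hU ?_
    have h : J.subschemeι z ∈ Set.range J.subschemeι := ⟨z, rfl⟩
    rwa [Scheme.IdealSheafData.range_subschemeι, Scheme.IdealSheafData.support_pow_succ] at h
  refine ⟨(asIso (pullback.snd U.ι J.subschemeι)).symm ≪≫ (J.comapIso U.ι).symm, ?_⟩
  rw [← cancel_mono U.ι, toOpen_ι, Iso.trans_hom, Iso.symm_hom, Iso.symm_hom, asIso_inv, Category.assoc,
    Category.assoc, IsIso.inv_comp_eq, ← pullback.condition, ← Category.assoc]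
  congr 1
  exact Scheme.IdealSheafData.comapIso_inv_subschemeι _ _

theorem ker_toOpen (hU : (𝓘.support : Set X) ⊆ (U : Set X)) (m : ℕ) :
    (toOpen 𝓘 U hU m).ker = (𝓘.comap U.ι) ^ (m + 1) := by
  obtain ⟨r, hr⟩ := exists_factor 𝓘 U hU m
  rw [← hr, Scheme.Hom.ker_comp_of_isIso, Scheme.IdealSheafData.ker_subschemeι]

variable {𝓘 U}

/-- A form on the dual which is the evaluation of a formal generator. -/
theorem exists_form (hU : (𝓘.support : Set X) ⊆ (U : Set X))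
    (hLef : ∀ D : (U : Scheme.{u}).Modules, FlatMod.IsFinLocFree D → Lef.HomToFormalBijective (𝓘.comap U.ι) D)
    (n : ℕ) (hH1 : ∀ m : ℕ, n ≤ m → Subsingleton (Coh.HH X (kernel (Lef.quotMap (Lef.pow_succ_le 𝓘 m))) 1))
    {P : (U : Scheme.{u}).Modules} (hP : PicF.IsInvertible P)
    (e₀ : Γ((pb (toOpen 𝓘 U hU n)).obj P, ⊤)) (he₀ : IsGen _ ⊤ e₀) :
    ∃ φ : dual P ⟶ Coh.structureModule (U : Scheme.{u}),
      ∀ (V : (U : Scheme.{u}).affineOpens) (ε : Γ(P, V.1)), IsGen P V.1 ε → ∀ ψ : DualSec P V.1,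
        ψ.app le_rfl ε = 1 → ∀ y : (U : Scheme.{u}), y ∈ V.1 →
          y ∈ (𝓘.comap U.ι).support → y ∈ (U : Scheme.{u}).basicOpen (show Γ((U : Scheme.{u}), V.1) from φ.app V.1 ψ) := by
  classical
  let g : ∀ m : ℕ, (𝓘 ^ (m + 1)).subscheme ⟶ (U : Scheme.{u}) := toOpen 𝓘 U hU
  haveI hg : ∀ m, IsClosedImmersion (g m) := isClosedImmersion_toOpen 𝓘 U hU
  let J := 𝓘.comap U.ι
  -- compatible generators
  have hstep : ∀ (j : ℕ) (e : {e : Γ((pb (g (n + j))).obj P, ⊤) // IsGen _ ⊤ e}),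
      ∃ e' : {e : Γ((pb (g (n + j + 1))).obj P, ⊤) // IsGen _ ⊤ e},
        ∀ (V : (U : Scheme.{u}).Opens) (a : Γ(P, V)), Lifts P (g (n + j + 1)) e'.1 V a → Lifts P (g (n + j)) e.1 V a := by
    intro j e
    haveI : IsClosedImmersion (Scheme.IdealSheafData.inclusion (Lef.pow_succ_le 𝓘 (n + j)) ≫ g (n + j + 1)) := by
      rw [inclusion_toOpen]; exact hg _
    haveI : IsClosedImmersion (Scheme.IdealSheafData.inclusion (Lef.pow_succ_le 𝓘 (n + j))) :=
      IsClosedImmersion.of_comp_isClosedImmersion _ (g (n + j + 1))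
    haveI := surjective_inclusion 𝓘 (n + j)
    obtain ⟨e', he', h⟩ := exists_step (Scheme.IdealSheafData.inclusion (Lef.pow_succ_le 𝓘 (n + j)))
      (subsingleton_H_K 𝓘 (n + j) (hH1 _ (Nat.le_add_right _ _))) (g (n + j)) (g (n + j + 1))
      (inclusion_toOpen 𝓘 U hU (n + j)) hP e.1 e.2
    exact ⟨⟨e', he'⟩, h⟩
  choose nxt hnxt using hstep
  let e : ∀ j : ℕ, {e : Γ((pb (g (n + j))).obj P, ⊤) // IsGen _ ⊤ e} := fun j =>
    Nat.rec (motive := fun j => {e : Γ((pb (g (n + j))).obj P, ⊤) // IsGen _ ⊤ e}) ⟨e₀, he₀⟩ nxt j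
  have he : ∀ j (V : (U : Scheme.{u}).Opens) (a : Γ(P, V)), Lifts P (g (n + (j + 1))) (e (j + 1)).1 V a →
      Lifts P (g (n + j)) (e j).1 V a := fun j V a ha => hnxt j (e j) V a ha
  -- the formal morphism
  have hy0 := fun j => exists_dualHom (g (n + j)) (J ^ (n + j + 1)) (ker_toOpen 𝓘 U hU (n + j)) hP (e j).1
  choose Y hY using hy0
  have hle : ∀ m : ℕ, J ^ (n + m + 1) ≤ J ^ (m + 1) := fun m => by
    rw [show n + m + 1 = (m + 1) + n by omega, pow_add]
    exact mul_le_of_le_one_right' le_top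
  let y : ∀ m : ℕ, dual P ⟶ ClSub.quotMod (J ^ (m + 1)) := fun m => Y m ≫ Lef.quotMap (hle m)
  have hy : ∀ (m : ℕ) (V : (U : Scheme.{u}).affineOpens) (ε : Γ(P, V.1)), IsGen P V.1 ε → ∀ a : Γ(P, V.1),
      Lifts P (g (n + m)) (e m).1 V.1 a → ∀ ψ : DualSec P V.1,
        (y m).app V.1 ψ = (ClSub.toSubscheme (J ^ (m + 1))).app V.1 (ψ.app le_rfl a) := by
    intro m V ε hε a ha ψ
    rw [← Lib.LefNFlat.toSubscheme_quotMap (hle m)]
    exact congrArg ((Lef.quotMap (hle m)).app V.1) (hY m V ε hε a ha ψ)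
  have hformal : Lef.IsFormalHom J (dual P) y := by
    intro m
    refine Scheme.Modules.hom_ext _ _ fun W => ?_
    ext ψ
    refine section_ext _ _ _ fun x hx => ?_
    obtain ⟨V, ε, hVW, hxV, hε⟩ := exists_affine_gen hP hx
    refine ⟨V.1, hVW, hxV, ?_⟩
    obtain ⟨w, hw⟩ := exists_lift (g (n + (m + 1))) V.2 hε (e (m + 1)).1
    rw [rs_app, rs_app]
    refine Eq.trans ?_ (hy m V ε hε _ (he m _ _ hw) (dualRes P hVW ψ)).symm
    rw [← Lib.LefNFlat.toSubscheme_quotMap (Lef.pow_succ_le J m)]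
    exact congrArg ((Lef.quotMap (Lef.pow_succ_le J m)).app V.1) (hy (m + 1) V ε hε _ hw (dualRes P hVW ψ))
  obtain ⟨φ, hφ⟩ := (hLef _ (Lib.TensorMod.LocFree.of_rank
    (Lib.TensorMod.LocFree.of_isInvertible (isInvertible_dual hP)))).2 y hformal
  refine ⟨φ, fun V ε hε ψ hψ y' hyV hy' => ?_⟩
  obtain ⟨w, hw⟩ := exists_lift (g (n + 0)) V.2 hε (e 0).1
  have h1 : (ClSub.toSubscheme (J ^ (0 + 1))).app V.1 (φ.app V.1 ψ) =
      (ClSub.toSubscheme (J ^ (0 + 1))).app V.1 (ψ.app le_rfl (w • ε)) :=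
    (congr(($(hφ 0)).app V.1 ψ)).trans (hy 0 V ε hε _ hw ψ)
  rw [map_smul, hψ, smul_eq_mul, mul_one] at h1
  have hu := isUnit_of_lift (g (n + 0)) hε (e 0).2 hw
  have hyw : y' ∈ (U : Scheme.{u}).basicOpen w := by
    have hrange : y' ∈ Set.range (g (n + 0)) := by
      rw [← ((hg (n + 0)).base_closed.isClosed_range).closure_eq, ← Scheme.Hom.support_ker, ker_toOpen,
        Scheme.IdealSheafData.support_pow_succ]
      exact hy'
    obtain ⟨z, rfl⟩ := hrange
    have h2 : z ∈ g (n + 0) ⁻¹ᵁ (U : Scheme.{u}).basicOpen w := by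
      rw [Scheme.preimage_basicOpen, Scheme.basicOpen_of_isUnit _ hu]
      exact hyV
    exact h2
  have hrange : y' ∈ Set.range (J ^ (0 + 1)).subschemeι := by
    rw [Scheme.IdealSheafData.range_subschemeι, Scheme.IdealSheafData.support_pow_succ]
    exact hy'
  obtain ⟨z, rfl⟩ := hrange
  have h3 : z ∈ (J ^ (0 + 1)).subschemeι ⁻¹ᵁ (U : Scheme.{u}).basicOpen w := hyw
  rw [Scheme.preimage_basicOpen] at h3
  show z ∈ (J ^ (0 + 1)).subschemeι ⁻¹ᵁ (U : Scheme.{u}).basicOpen _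
  rw [Scheme.preimage_basicOpen]
  exact (congrArg (fun c => z ∈ (J ^ (0 + 1)).subscheme.basicOpen c) h1).mpr h3

/-- A function nonvanishing on the closed subscheme is a unit. -/
theorem isUnit_of_nonvanishing {Y : Scheme.{u}} (J : Y.IdealSheafData)
    (hJ : Lef.HomToFormalBijective J (Coh.structureModule Y)) (f : Γ(Y, ⊤))
    (hf : ∀ y ∈ J.support, y ∈ Y.basicOpen f) : IsUnit f := by
  have hu : ∀ m : ℕ, IsUnit ((J ^ (m + 1)).subschemeι.appTop f) := fun m => by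
    refine (J ^ (m + 1)).subscheme.toRingedSpace.isUnit_of_isUnit_germ ⊤ _ fun z hz => ?_
    rw [← Scheme.mem_basicOpen _ _ z hz]
    have h : (J ^ (m + 1)).subschemeι z ∈ Set.range (J ^ (m + 1)).subschemeι := ⟨z, rfl⟩
    rw [Scheme.IdealSheafData.range_subschemeι, Scheme.IdealSheafData.support_pow_succ] at h
    have h2 : z ∈ (J ^ (m + 1)).subschemeι ⁻¹ᵁ Y.basicOpen f := hf _ h
    rw [Scheme.preimage_basicOpen] at h2
    exact h2
  let ι := fun m : ℕ => (J ^ (m + 1)).subschemeι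
  let v : ∀ m : ℕ, Γ((J ^ (m + 1)).subscheme, ⊤) := fun m => ((hu m).unit⁻¹ : _)
  have hv : ∀ m, (ι m).appTop f * v m = 1 := fun m => (hu m).mul_val_inv
  have hcomp : ∀ m : ℕ, (Scheme.IdealSheafData.inclusion (Lef.pow_succ_le J m)).appTop ((ι (m + 1)).appTop f) =
      (ι m).appTop f := fun m =>
    congr((Scheme.Hom.appTop $(Scheme.IdealSheafData.inclusion_subschemeι (Lef.pow_succ_le J m))) f)
  obtain ⟨h, hh⟩ := H95.LefConn.fun_exists J hJ v fun m => by
    refine (hu m).mul_left_cancel ?_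
    have h1 := congrArg (Scheme.IdealSheafData.inclusion (Lef.pow_succ_le J m)).appTop.hom (hv (m + 1))
    rw [map_mul, map_one] at h1
    erw [hcomp m] at h1
    exact h1.trans (hv m).symm
  refine IsUnit.of_mul_eq_one h (H95.LefConn.fun_ext J hJ fun m => ?_)
  rw [map_mul, map_one]
  erw [hh m]
  exact hv m

/-- A line bundle trivial on a thickening is trivial. -/
theorem trivial_of_trivial_thickening (hU : (𝓘.support : Set X) ⊆ (U : Set X))
    (hLef : ∀ D : (U : Scheme.{u}).Modules, FlatMod.IsFinLocFree D → Lef.HomToFormalBijective (𝓘.comap U.ι) D)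
    (n : ℕ) (hH1 : ∀ m : ℕ, n ≤ m → Subsingleton (Coh.HH X (kernel (Lef.quotMap (Lef.pow_succ_le 𝓘 m))) 1))
    {P : (U : Scheme.{u}).Modules} (hP : PicF.IsInvertible P)
    (e₀ : Γ((pb (toOpen 𝓘 U hU n)).obj P, ⊤)) (he₀ : IsGen _ ⊤ e₀)
    (e₁ : Γ((pb (toOpen 𝓘 U hU n)).obj (dual P), ⊤)) (he₁ : IsGen _ ⊤ e₁) :
    Nonempty (P ≅ Coh.structureModule (U : Scheme.{u})) := by
  let Y : Scheme.{u} := U
  obtain ⟨φ, hφ⟩ := exists_form hU hLef n hH1 hP e₀ he₀
  obtain ⟨φ', hφ'⟩ := exists_form hU hLef n hH1 (isInvertible_dual hP) e₁ he₁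
  let s : P ⟶ Coh.structureModule Y := Lib.ExtShTensor.bidual P ≫ φ'
  let sd : DualSec P (⊤ : Y.Opens) :=
    ⟨fun V => { toFun := fun x => (show Γ(Y, V.1) from s.app V.1 x)
                map_add' := fun a b => map_add (s.app V.1).hom a b
                map_smul' := fun r x => Scheme.Modules.Hom.app_smul s r x },
     fun V W h x => rs_app s h x⟩
  let f : Γ(Y, ⊤) := φ.app ⊤ sd
  have hloc : ∀ (V : Y.affineOpens) (ε : Γ(P, V.1)), IsGen P V.1 ε → ∃ δ : DualSec P V.1,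
      δ.app le_rfl ε = 1 ∧ rf le_top f =
        (show Γ(Y, V.1) from s.app V.1 ε) * (show Γ(Y, V.1) from φ.app V.1 δ) := by
    intro V ε hε
    obtain ⟨δ, hδ, hδε⟩ := exists_dual_gen hε
    refine ⟨δ, hδε, ?_⟩
    have h1 : dualRes P (le_top : V.1 ≤ ⊤) sd = (show Γ(Y, V.1) from s.app V.1 ε) • δ := by
      refine DualSec.ext fun W hW x => ?_
      obtain ⟨a, rfl⟩ := (hε W hW).2 x
      dsimp only
      rw [dualRes_app, map_smul, map_smul]
      congr 1
      refine Eq.trans ?_ (smul_app P (show Γ(Y, V.1) from s.app V.1 ε) δ hW _).symm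
      rw [← DualSec.compat δ le_rfl hW, hδε]
      refine ((rs_app s hW ε).symm.trans ?_)
      show rf hW _ = rf hW _ * rf hW 1
      rw [← map_mul, mul_one]
    refine ((rs_app φ le_top sd).trans (congrArg (φ.app V.1) h1)).trans ?_
    exact Scheme.Modules.Hom.app_smul φ _ δ
  have hf : IsUnit f := by
    refine isUnit_of_nonvanishing (𝓘.comap U.ι) (hLef _ (H95.LefConn.isFinLocFree_structure _)) f
      fun y hy => ?_
    obtain ⟨V, ε, -, hyV, hε⟩ := exists_affine_gen hP (V := ⊤) (y := y) trivial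
    obtain ⟨δ, hδε, hfV⟩ := hloc V ε hε
    have ha : y ∈ Y.basicOpen (show Γ(Y, V.1) from φ.app V.1 δ) := hφ V ε hε δ hδε y hyV hy
    obtain ⟨δ', hδ', hδ'ε⟩ := exists_dual_gen hε
    have hb : y ∈ Y.basicOpen (show Γ(Y, V.1) from s.app V.1 ε) :=
      hφ' V δ' hδ' ((Lib.ExtShTensor.bidual P).app V.1 ε) (show δ'.app le_rfl (rs P le_rfl ε) = 1 by
        rw [rs_self]; exact hδ'ε) y hyV hy
    have : y ∈ Y.basicOpen (rf (le_top : V.1 ≤ ⊤) f) := by
      rw [hfV, Scheme.basicOpen_mul]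
      exact ⟨hb, ha⟩
    rw [Scheme.basicOpen_res] at this
    exact this.2
  choose V ε hε using fun y : Y => exists_affine_gen hP (V := ⊤) (y := y) trivial
  haveI : IsIso s := Lib.Modules.Local.isIso_of_restrict (fun y => (V y).1)
      (eq_top_iff.2 fun y _ => Opens.mem_iSup.2 ⟨y, (hε y).2.1⟩) s fun y => by
    obtain ⟨δ, -, hfV⟩ := hloc (V y) (ε y) (hε y).2.2
    have h1 : IsUnit (rf (le_top : (V y).1 ≤ ⊤) f) := hf.map _
    rw [hfV] at h1
    have hu : IsUnit (show Γ(Y, (V y).1) from s.app (V y).1 (ε y)) := isUnit_of_mul_isUnit_left h1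
    refine Lib.TensorMod.LocIso.isIso_restrict_of_isIso_app fun W hW =>
      (ConcreteCategory.isIso_iff_bijective _).2 ?_
    refine (Function.Bijective.of_comp_iff _ ((hε y).2.2 W hW)).1 ?_
    have h2 : s.app W ∘ (fun a : Γ(Y, W) => a • rs P hW (ε y)) =
        fun a : Γ(Y, W) => a * rf hW (show Γ(Y, (V y).1) from s.app (V y).1 (ε y)) :=
      funext fun a => (Scheme.Modules.Hom.app_smul s a _).trans
        (congrArg (a • ·) (rs_app s hW (ε y)).symm)
    rw [h2]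
    exact IsUnit.isUnit_iff_mulRight_bijective.1 (hu.map _)
  exact ⟨asIso s⟩

theorem iso_of_thickening_iso (hU : (𝓘.support : Set X) ⊆ (U : Set X))
    (hLef : ∀ D : (U : Scheme.{u}).Modules, FlatMod.IsFinLocFree D → Lef.HomToFormalBijective (𝓘.comap U.ι) D)
    (n : ℕ) (hH1 : ∀ m : ℕ, n ≤ m → Subsingleton (Coh.HH X (kernel (Lef.quotMap (Lef.pow_succ_le 𝓘 m))) 1))
    {L L' : (U : Scheme.{u}).Modules} (hL : PicF.IsInvertible L) (hL' : PicF.IsInvertible L')
    (e : (Scheme.Modules.pullback (((𝓘.comap U.ι) ^ (n + 1)).subschemeι)).obj L ≅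
      (Scheme.Modules.pullback (((𝓘.comap U.ι) ^ (n + 1)).subschemeι)).obj L') : Nonempty (L ≅ L') := by
  obtain ⟨r, hr⟩ := exists_factor 𝓘 U hU n
  let ι := ((𝓘.comap U.ι) ^ (n + 1)).subschemeι
  have mk : ∀ {A B : (U : Scheme.{u}).Modules}, PicF.IsInvertible A → PicF.IsInvertible B →
      ((pb ι).obj A ≅ (pb ι).obj B) →
      ∃ e₀ : Γ((pb (toOpen 𝓘 U hU n)).obj (CohB1.tensorMod A (dual B)), ⊤), IsGen _ ⊤ e₀ := by
    intro A B hA hB eAB
    let D := dual B
    haveI h1 := isIso_delta ι A D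
    haveI h2 := isIso_delta ι B D
    let t : (pb ι).obj (CohB1.tensorMod A D) ≅ Coh.structureModule _ :=
      asIso (delta ι A D) ≪≫ Lib.TensorMod.Basic.tensorIso eAB (Iso.refl _) ≪≫
        (asIso (delta ι B D)).symm ≪≫ (pb ι).mapIso (tensorDualIso hB) ≪≫
        PicLoc.pullbackStructureIso ι
    obtain ⟨e', he', -⟩ := exists_down (CohB1.tensorMod A D) r.hom ι (toOpen 𝓘 U hU n) hr
      (t.inv.app ⊤ (one _ ⊤))
    exact ⟨e', he' (isGen_of_isIso_over (isIso_over_of_iso t.symm ⊤) (isGen_one ⊤))⟩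
  let P := CohB1.tensorMod L (dual L')
  have hP : PicF.IsInvertible P := isInvertible_tensorMod hL (isInvertible_dual hL')
  obtain ⟨e₀, he₀⟩ := mk hL hL' e
  have hO := PicLoc.isInvertible_structureModule (U : Scheme.{u})
  -- the dual is trivial on the thickening as well
  haveI h1 := isIso_delta (toOpen 𝓘 U hU n) P (dual P)
  let g := toOpen 𝓘 U hU n
  obtain ⟨φ₀, hφ₀⟩ := exists_hom_of_family (M := (pb g).obj P) (fun W => rs ((pb g).obj P) le_top e₀)
    fun V W hVW => rs_rs _ _ _ e₀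
  haveI : IsIso φ₀ := Lib.Modules.Local.isIso_of_restrict (fun _ : PUnit.{u + 1} => ⊤)
      (by simp) φ₀ fun _ => (isIso_restrict_iff φ₀ ⊤).2 (by
        rw [show sv φ₀ ⊤ = rs ((pb g).obj P) le_rfl e₀ from hφ₀ ⊤, rs_self]; exact he₀)
  let t : (pb g).obj (dual P) ≅ Coh.structureModule _ :=
    (Lib.TensorMod.Basic.leftUnit _).symm ≪≫
      Lib.TensorMod.Basic.tensorIso (asIso φ₀) (Iso.refl _) ≪≫
      (asIso (delta g P (dual P))).symm ≪≫ (pb g).mapIso (tensorDualIso hP) ≪≫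
      PicLoc.pullbackStructureIso g
  obtain ⟨i⟩ := trivial_of_trivial_thickening hU hLef n hH1 hP e₀ he₀ (t.inv.app ⊤ (one _ ⊤))
    (isGen_of_isIso_over (isIso_over_of_iso t.symm ⊤) (isGen_one ⊤))
  exact ⟨cancelRight (isInvertible_dual hL') (i ≪≫ (tensorDualIso hL').symm)⟩

end

end Groth.Agent.H78.LefPic
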